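import Cfsg.Agent.SympAmalgam.Level

/-!
The universal property of the symplectic amalgam.
-/

set_option autoImplicit false

namespace CfsgLib.SympAmalgam

open Matrix CfsgLib.Classical.Symp

/-- The graph of a homomorphism on a subgroup. -/
def graphOf {S H : Type*} [Group S] [Group H] {A : Subgroup S} (φ : A →* H) : Subgroup (H × S) :=
  (φ.prod A.subtype).range

theorem graphOf_inj {S H : Type*} [Group S] [Group H] {A : Subgroup S} (φ : A →* H) :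
    Inj (MonoidHom.snd H S) (graphOf φ) := by
  rintro _ ⟨g, rfl⟩ h
  have : g = 1 := Subtype.ext h
  rw [this, map_one]

theorem graphOf_map {S H : Type*} [Group S] [Group H] {A : Subgroup S} (φ : A →* H) :
    (graphOf φ).map (MonoidHom.snd H S) = A := by
  ext g
  constructor
  · rintro ⟨_, ⟨a, rfl⟩, rfl⟩
    exact a.2
  · intro hg
    exact ⟨_, ⟨⟨g, hg⟩, rfl⟩, rfl⟩

theorem graphOf_le {S H : Type*} [Group S] [Group H] {A A' : Subgroup S} (φ : A →* H) (Ψ : A' →* H)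
    (h : A ≤ A') (he : ∀ (g : S) (hg : g ∈ A), Ψ ⟨g, h hg⟩ = φ ⟨g, hg⟩) :
    graphOf φ ≤ graphOf Ψ := by
  rintro _ ⟨⟨g, hg⟩, rfl⟩
  exact ⟨⟨g, h hg⟩, Prod.ext (he g hg) rfl⟩

theorem graphOf_pair_inj {S H : Type*} [Group S] [Group H] {A A' : Subgroup S} (φ : A →* H)
    (φ' : A' →* H) (h : ∃ Ψ : ↥(A ⊔ A') →* H,
      (∀ (g : S) (hg : g ∈ A), Ψ ⟨g, Subgroup.mem_sup_left hg⟩ = φ ⟨g, hg⟩) ∧
        (∀ (g : S) (hg : g ∈ A'), Ψ ⟨g, Subgroup.mem_sup_right hg⟩ = φ' ⟨g, hg⟩)) :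
    Inj (MonoidHom.snd H S) (graphOf φ ⊔ graphOf φ') := by
  obtain ⟨Ψ, h1, h2⟩ := h
  exact (graphOf_inj Ψ).mono (sup_le (graphOf_le φ Ψ le_sup_left h1) (graphOf_le φ' Ψ le_sup_right h2))

/-- The universal property. -/
theorem existsUnique_hom_of {F : Type*} [Field F] {n : ℕ} (hn : 2 ≤ n)
    {S M : Fin n → Subgroup (Matrix.symplecticGroup (Fin n) F)}
    (hS : ∀ j, S j = plane j) (hM : ∀ i : Fin n, i.val + 1 < n → M i = mGrp i)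
    {H : Type*} [Group H] (σ : ∀ j : Fin n, ↥(S j) →* H) (μ : ∀ i : Fin n, ↥(M i) →* H)
    (hSS : ∀ j l : Fin n, j ≠ l → ∃ Ψ : ↥(S j ⊔ S l) →* H,
      (∀ g (hg : g ∈ S j), Ψ ⟨g, Subgroup.mem_sup_left hg⟩ = σ j ⟨g, hg⟩) ∧
        (∀ g (hg : g ∈ S l), Ψ ⟨g, Subgroup.mem_sup_right hg⟩ = σ l ⟨g, hg⟩))
    (hMM : ∀ i i' : Fin n, i ≠ i' → (i : ℕ) + 1 < n → (i' : ℕ) + 1 < n → ∃ Ψ : ↥(M i ⊔ M i') →* H,
      (∀ g (hg : g ∈ M i), Ψ ⟨g, Subgroup.mem_sup_left hg⟩ = μ i ⟨g, hg⟩) ∧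
        (∀ g (hg : g ∈ M i'), Ψ ⟨g, Subgroup.mem_sup_right hg⟩ = μ i' ⟨g, hg⟩))
    (hMS : ∀ i j : Fin n, (i : ℕ) + 1 < n → ∃ Ψ : ↥(M i ⊔ S j) →* H,
      (∀ g (hg : g ∈ M i), Ψ ⟨g, Subgroup.mem_sup_left hg⟩ = μ i ⟨g, hg⟩) ∧
        (∀ g (hg : g ∈ S j), Ψ ⟨g, Subgroup.mem_sup_right hg⟩ = σ j ⟨g, hg⟩))
    (hadd : ∀ D : Lifts n F (H × Matrix.symplecticGroup (Fin n) F), D.π = MonoidHom.snd _ _ →
      D.GS = (fun j => graphOf (σ j)) → D.GM = (fun i => graphOf (μ i)) → D.AddBase) :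
    ∃! Φ : Matrix.symplecticGroup (Fin n) F →* H,
      (∀ (j : Fin n) g (hg : g ∈ S j), Φ g = σ j ⟨g, hg⟩) ∧
        (∀ (i : Fin n), (i : ℕ) + 1 < n → ∀ g (hg : g ∈ M i), Φ g = μ i ⟨g, hg⟩) := by
  let D : Lifts n F (H × Matrix.symplecticGroup (Fin n) F) :=
    { π := MonoidHom.snd _ _
      GS := fun j => graphOf (σ j)
      GM := fun i => graphOf (μ i)
      map_GS := fun j => by rw [graphOf_map, hS]
      map_GM := fun i hi => by rw [graphOf_map, hM i hi]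
      inj_SS := fun j l => by
        by_cases h : j = l
        · subst h
          haveI : Nontrivial (Fin n) := Fin.nontrivial_iff_two_le.2 hn
          obtain ⟨l', hl'⟩ := exists_ne j
          exact (graphOf_pair_inj _ _ (hSS j l' hl'.symm)).mono (sup_le le_sup_left le_sup_left)
        · exact graphOf_pair_inj _ _ (hSS j l h)
      inj_MM := fun i i' hi hi' => by
        by_cases h : i = i'
        · subst h
          exact (graphOf_pair_inj _ _ (hMS i i hi)).mono (sup_le le_sup_left le_sup_left)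
        · exact graphOf_pair_inj _ _ (hMM i i' h hi hi')
      inj_MS := fun i j hi => graphOf_pair_inj _ _ (hMS i j hi) }
  have hF : D.AddBase := hadd D rfl rfl rfl
  let f : D.gam 0 →* Matrix.symplecticGroup (Fin n) F := D.π.comp (D.gam 0).subtype
  have hsurj : Function.Surjective f := fun g => by
    obtain ⟨x, hx, e⟩ := D.exists_gam (k := 0) (g := g)
      (mem_fixK.2 fun j hj => absurd hj (by omega))
    exact ⟨⟨x, hx⟩, e⟩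
  have hinj : Function.Injective f := by
    intro x y e
    exact Subtype.ext ((D.inj_gam hF n 0 (by omega)).eq x.2 y.2 e)
  let e := MulEquiv.ofBijective f ⟨hinj, hsurj⟩
  let Φ : Matrix.symplecticGroup (Fin n) F →* H :=
    (MonoidHom.fst _ _).comp ((D.gam 0).subtype.comp e.symm.toMonoidHom)
  have hΦ : ∀ x : D.gam 0, Φ (f x) = x.1.1 := fun x => by
    show (e.symm (e x)).1.1 = x.1.1
    rw [e.symm_apply_apply]
  refine ⟨Φ, ⟨fun j g hg => ?_, fun i hi g hg => ?_⟩, fun Φ' hΦ' => ?_⟩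
  · exact hΦ ⟨(σ j ⟨g, hg⟩, g), D.GS_le_gam (Nat.zero_le _) (⟨⟨g, hg⟩, rfl⟩ : _ ∈ graphOf (σ j))⟩
  · exact hΦ ⟨(μ i ⟨g, hg⟩, g), D.GM_le_gam (Nat.zero_le _) hi (⟨⟨g, hg⟩, rfl⟩ : _ ∈ graphOf (μ i))⟩
  · have hle : D.gam 0 ≤ (Φ'.comp (MonoidHom.snd _ _)).eqLocus (MonoidHom.fst _ _) := by
      refine D.gam_le (fun j _ => ?_) fun i _ hi => ?_
      · rintro _ ⟨⟨g, hg⟩, rfl⟩
        exact hΦ'.1 j g hg
      · rintro _ ⟨⟨g, hg⟩, rfl⟩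
        exact hΦ'.2 i hi g hg
    refine MonoidHom.ext fun g => ?_
    obtain ⟨x, rfl⟩ := hsurj g
    rw [hΦ]
    exact hle x.2

/-- The universal property over fields with more than two elements. -/
theorem existsUnique_hom {F : Type*} [Field F] (hF : ∃ a : F, a ≠ 0 ∧ a ≠ 1) {n : ℕ} (hn : 2 ≤ n)
    {S M : Fin n → Subgroup (Matrix.symplecticGroup (Fin n) F)}
    (hS : ∀ j, S j = plane j) (hM : ∀ i : Fin n, i.val + 1 < n → M i = mGrp i)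
    {H : Type*} [Group H] (σ : ∀ j : Fin n, ↥(S j) →* H) (μ : ∀ i : Fin n, ↥(M i) →* H)
    (hSS : ∀ j l : Fin n, j ≠ l → ∃ Ψ : ↥(S j ⊔ S l) →* H,
      (∀ g (hg : g ∈ S j), Ψ ⟨g, Subgroup.mem_sup_left hg⟩ = σ j ⟨g, hg⟩) ∧
        (∀ g (hg : g ∈ S l), Ψ ⟨g, Subgroup.mem_sup_right hg⟩ = σ l ⟨g, hg⟩))
    (hMM : ∀ i i' : Fin n, i ≠ i' → (i : ℕ) + 1 < n → (i' : ℕ) + 1 < n → ∃ Ψ : ↥(M i ⊔ M i') →* H,
      (∀ g (hg : g ∈ M i), Ψ ⟨g, Subgroup.mem_sup_left hg⟩ = μ i ⟨g, hg⟩) ∧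
        (∀ g (hg : g ∈ M i'), Ψ ⟨g, Subgroup.mem_sup_right hg⟩ = μ i' ⟨g, hg⟩))
    (hMS : ∀ i j : Fin n, (i : ℕ) + 1 < n → ∃ Ψ : ↥(M i ⊔ S j) →* H,
      (∀ g (hg : g ∈ M i), Ψ ⟨g, Subgroup.mem_sup_left hg⟩ = μ i ⟨g, hg⟩) ∧
        (∀ g (hg : g ∈ S j), Ψ ⟨g, Subgroup.mem_sup_right hg⟩ = σ j ⟨g, hg⟩)) :
    ∃! Φ : Matrix.symplecticGroup (Fin n) F →* H,
      (∀ (j : Fin n) g (hg : g ∈ S j), Φ g = σ j ⟨g, hg⟩) ∧
        (∀ (i : Fin n), (i : ℕ) + 1 < n → ∀ g (hg : g ∈ M i), Φ g = μ i ⟨g, hg⟩) :=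
  existsUnique_hom_of hn hS hM σ μ hSS hMM hMS fun _ _ _ _ => Or.inl hF

end CfsgLib.SympAmalgam
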