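import Mathlib.Algebra.Group.Subgroup.Lattice
import Mathlib.Tactic.Group

/-!
An abstract big cell criterion for injectivity of a homomorphism.
-/

set_option autoImplicit false

namespace CfsgLib.SympAmalgam

variable {Γ S : Type*} [Group Γ] [Group S] {π : Γ →* S}

/-- The cell `V · L · U`. -/
def cell (V L U : Subgroup Γ) : Set Γ := {x | ∃ v ∈ V, ∃ l ∈ L, ∃ u ∈ U, x = v * l * u}

/-- A homomorphism which is injective on the cell is injective, given good translations. -/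
theorem injective_of_cell (π : Γ →* S) (U V L : Subgroup Γ)
    (hLU : ∀ l ∈ L, ∀ u ∈ U, l * u * l⁻¹ ∈ U)
    (hLV : ∀ l ∈ L, ∀ v ∈ V, l * v * l⁻¹ ∈ V)
    (huniq : ∀ v ∈ V, ∀ l ∈ L, ∀ u ∈ U, π (v * l * u) = 1 → v * l * u = 1)
    (hK : ∀ u ∈ U, ∀ v ∈ V, π (u * v) ∈ π '' cell V L U → u * v ∈ cell V L U)
    (hgood : ∀ γ ∈ U ⊔ V ⊔ L, ∀ y ∈ V,
      (∃ u ∈ U, π (u * γ) ∈ π '' cell V L U ∧ π (u * y⁻¹) ∈ π '' cell V L U) ∨
      (∃ y₁ ∈ V, ∃ y₂ ∈ V, y = y₁ * y₂ ∧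
        (∃ u ∈ U, π (u * γ) ∈ π '' cell V L U ∧ π (u * y₂⁻¹) ∈ π '' cell V L U) ∧
        (∃ u ∈ U, π (u * (y₂ * γ)) ∈ π '' cell V L U ∧ π (u * y₁⁻¹) ∈ π '' cell V L U)) ∨
      ∀ x ∈ U ⊔ V ⊔ L, π x = 1 → x = 1) :
    ∀ γ ∈ U ⊔ V ⊔ L, π γ = 1 → γ = 1 := by
  by_cases htriv : ∀ x ∈ U ⊔ V ⊔ L, π x = 1 → x = 1
  · exact htriv
  have hleft : ∀ x ∈ cell V L U, ∀ v ∈ V, ∀ l ∈ L, v * (l * x) ∈ cell V L U := by
    rintro x ⟨v', hv', l', hl', u', hu', rfl⟩ v hv l hl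
    refine ⟨v * (l * v' * l⁻¹), mul_mem hv (hLV l hl v' hv'), l * l', mul_mem hl hl', u', hu', ?_⟩
    group
  have hright : ∀ x ∈ cell V L U, ∀ l ∈ L, ∀ u ∈ U, x * (l * u) ∈ cell V L U := by
    rintro x ⟨v', hv', l', hl', u', hu', rfl⟩ l hl u hu
    refine ⟨v', hv', l' * l, mul_mem hl' hl, l⁻¹ * u' * l * u, mul_mem ?_ hu, by group⟩
    simpa using hLU l⁻¹ (inv_mem hl) u' hu'
  -- translating a cell element from the left
  have hUC : ∀ x ∈ cell V L U, ∀ u ∈ U, π (u * x) ∈ π '' cell V L U → u * x ∈ cell V L U := by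
    rintro x ⟨v', hv', l', hl', u', hu', rfl⟩ u hu ⟨c, hc, e⟩
    have h1 : u * v' ∈ cell V L U := by
      refine hK u hu v' hv' ⟨c * (u'⁻¹ * l'⁻¹), ?_, ?_⟩
      · have hx := hright c hc l'⁻¹ (inv_mem hl') (l' * u'⁻¹ * l'⁻¹) (hLU l' hl' _ (inv_mem hu'))
        have e2 : c * (l'⁻¹ * (l' * u'⁻¹ * l'⁻¹)) = c * (u'⁻¹ * l'⁻¹) := by group
        rwa [e2] at hx
      · rw [map_mul, e, ← map_mul]; congr 1; group
    have := hright _ h1 l' hl' u' hu'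
    have e2 : u * v' * (l' * u') = u * (v' * l' * u') := by group
    rwa [e2] at this
  let P : Γ → Prop := fun γ => γ ∈ U ⊔ V ⊔ L ∧
    ∀ u ∈ U, π (u * γ) ∈ π '' cell V L U → u * γ ∈ cell V L U
  have hP1 : P 1 := ⟨one_mem _, fun u hu _ => ⟨1, one_mem _, 1, one_mem _, u, hu, by group⟩⟩
  have hPU : ∀ x ∈ U, ∀ γ, P γ → P (x * γ) := by
    rintro x hx γ ⟨hm, hγ⟩
    refine ⟨mul_mem (Subgroup.mem_sup_left (Subgroup.mem_sup_left hx)) hm, fun u hu h => ?_⟩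
    rw [← mul_assoc] at h ⊢
    exact hγ _ (mul_mem hu hx) h
  have hPL : ∀ x ∈ L, ∀ γ, P γ → P (x * γ) := by
    rintro x hx γ ⟨hm, hγ⟩
    refine ⟨mul_mem (Subgroup.mem_sup_right hx) hm, fun u hu h => ?_⟩
    have e : u * (x * γ) = x * ((x⁻¹ * u * x) * γ) := by group
    have hu' : x⁻¹ * u * x ∈ U := by simpa using hLU x⁻¹ (inv_mem hx) u hu
    have h' : π (x⁻¹ * u * x * γ) ∈ π '' cell V L U := by
      obtain ⟨c, hc, ec⟩ := h
      refine ⟨1 * (x⁻¹ * c), hleft c hc 1 (one_mem _) x⁻¹ (inv_mem hx), ?_⟩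
      rw [one_mul, map_mul, ec, ← map_mul]; congr 1; group
    rw [e]
    simpa using hleft _ (hγ _ hu' h') 1 (one_mem _) x hx
  have hPV₁ : ∀ y ∈ V, ∀ γ, (∃ u ∈ U, π (u * γ) ∈ π '' cell V L U ∧
      π (u * y⁻¹) ∈ π '' cell V L U) → P γ → P (y * γ) := by
    rintro y hy γ hgd ⟨hm, hγ⟩
    refine ⟨mul_mem (Subgroup.mem_sup_left (Subgroup.mem_sup_right hy)) hm, fun u hu h => ?_⟩
    obtain ⟨u₁, hu₁, h1, h2⟩ := hgd
    obtain ⟨v', hv', l', hl', u', hu', e'⟩ := hK u₁ hu₁ y⁻¹ (inv_mem hy) h2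
    have c1 := hγ u₁ hu₁ h1
    have c2 : v'⁻¹ * (u₁ * γ) ∈ cell V L U := by
      simpa using hleft _ c1 v'⁻¹ (inv_mem hv') 1 (one_mem _)
    have c3 : l'⁻¹ * (v'⁻¹ * (u₁ * γ)) ∈ cell V L U := by
      simpa using hleft _ c2 1 (one_mem _) l'⁻¹ (inv_mem hl')
    have ey : y * γ = u'⁻¹ * (l'⁻¹ * (v'⁻¹ * (u₁ * γ))) := by
      have e3 : y = u'⁻¹ * l'⁻¹ * v'⁻¹ * u₁ := by
        have := congrArg (fun t => t⁻¹ * u₁) e'
        simp only [mul_inv_rev, inv_inv, inv_mul_cancel_right] at this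
        rw [this]; group
      rw [e3]; group
    rw [ey, ← mul_assoc u] at h ⊢
    exact hUC _ c3 _ (mul_mem hu (inv_mem hu')) h
  have hPV : ∀ y ∈ V, ∀ γ, P γ → P (y * γ) := by
    intro y hy γ hγ
    rcases hgood γ hγ.1 y hy with h | ⟨y₁, hy₁, y₂, hy₂, rfl, h₂, h₁⟩ | h
    · exact hPV₁ y hy γ h hγ
    · rw [mul_assoc]; exact hPV₁ y₁ hy₁ _ h₁ (hPV₁ y₂ hy₂ γ h₂ hγ)
    · exact absurd h htriv
  have hall : ∀ γ ∈ U ⊔ V ⊔ L, P γ := by
    intro γ hγ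
    rw [Subgroup.sup_eq_closure, Subgroup.sup_eq_closure] at hγ
    have hind : ∀ δ, P δ → P (γ * δ) ∧ P (γ⁻¹ * δ) := by
      induction hγ using Subgroup.closure_induction with
      | mem x hx =>
        intro δ hδ
        rcases hx with hx | hx
        · have hind' : ∀ ε, P ε → P (x * ε) ∧ P (x⁻¹ * ε) := by
            induction hx using Subgroup.closure_induction with
            | mem z hz =>
              intro ε hε
              rcases hz with hz | hz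
              · exact ⟨hPU z hz ε hε, hPU _ (inv_mem hz) ε hε⟩
              · exact ⟨hPV z hz ε hε, hPV _ (inv_mem hz) ε hε⟩
            | one => intro ε hε; simpa using hε
            | mul a b _ _ iha ihb =>
              intro ε hε
              refine ⟨by rw [mul_assoc]; exact (iha _ (ihb ε hε).1).1, ?_⟩
              rw [mul_inv_rev, mul_assoc]; exact (ihb _ (iha ε hε).2).2
            | inv a _ iha => intro ε hε; rw [inv_inv]; exact (iha ε hε).symm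
          exact hind' δ hδ
        · exact ⟨hPL x hx δ hδ, hPL _ (inv_mem hx) δ hδ⟩
      | one => intro δ hδ; simpa using hδ
      | mul a b _ _ iha ihb =>
        intro δ hδ
        refine ⟨by rw [mul_assoc]; exact (iha _ (ihb δ hδ).1).1, ?_⟩
        rw [mul_inv_rev, mul_assoc]; exact (ihb _ (iha δ hδ).2).2
      | inv a _ iha => intro δ hδ; rw [inv_inv]; exact (iha δ hδ).symm
    simpa using (hind 1 hP1).1
  intro γ hmem hγ
  obtain ⟨v, hv, l, hl, u, hu, e⟩ := (hall γ hmem).2 1 (one_mem _)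
    ⟨1, ⟨1, one_mem _, 1, one_mem _, 1, one_mem _, by group⟩, by rw [one_mul, hγ, map_one]⟩
  rw [one_mul] at e
  rw [e] at hγ ⊢
  exact huniq v hv l hl u hu hγ

end CfsgLib.SympAmalgam
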