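import Cfsg.Agent.SympAmalgam.Root
import Cfsg.Agent.SympAmalgam.Engine

/-!
One descending step: injectivity on the generators of index at least `k + 1` gives injectivity on
those of index at least `k`.
-/

set_option autoImplicit false

namespace CfsgLib.SympAmalgam

open Matrix CfsgLib.Classical.Symp

variable {m : ℕ} {F : Type*} [Field F] {Γ : Type*} [Group Γ]

local notation "B" => Cfsg.sympForm m F
local notation "Mat" => Matrix (Fin m ⊕ Fin m) (Fin m ⊕ Fin m) F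
local notation "Sp" => Matrix.symplecticGroup (Fin m) F
local notation "Vec" => Fin m ⊕ Fin m → F

/-- The Weyl element of the `k`-th plane. -/
theorem exists_weyl (k : Fin m) : ∃ g : Sp, g ∈ plane k ∧ (g : Mat) *ᵥ stdF k = stdE k ∧
    (g : Mat) *ᵥ stdE k = -stdF k := by
  obtain ⟨g, hg, e1, e2⟩ := exists_pair_mulVec_eq (nondegOn_stdComplement _) (stdE_mem_planeSpace k)
    (stdF_mem_planeSpace (F := F) k) (Submodule.neg_mem (planeSpace (F := F) k) (stdF_mem_planeSpace k))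
    (stdE_mem_planeSpace (F := F) k) (by rw [form_stdE_stdF, if_pos rfl])
    (by rw [form_neg_left, form_stdF_stdE, if_pos rfl, neg_neg])
  exact ⟨g, transvectionGroup_le_plane k hg, e2, e1⟩

/-- The corner entry. -/
def corner (k : Fin m) (g : Sp) : F := B (stdE k) ((g : Mat) *ᵥ stdF k)

theorem corner_mul {k : Fin m} {g h : Sp} {a : F} (e : (h : Mat) *ᵥ stdF k = a • stdF k) :
    corner k (g * h) = a * corner k g := by
  rw [corner, corner, mul_mulVec, e, mulVec_smul, form_smul_right]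

theorem corner_lower_mul {k : Fin m} {v : Vec} (hv : v ∈ wSpace (k.val + 1)) (z : F) (g : Sp) :
    corner k (eT (stdE k) v z * g) = corner k g := by
  rw [corner, corner, mul_mulVec, eT_mulVec (form_zero_of_wSpace hv).2]
  simp only [form_add_right, form_smul_right, form_self, (form_zero_of_wSpace hv).2]
  ring

namespace Lifts

variable (D : Lifts m F Γ) (k : Fin m)

/-- A lift of the Weyl element. -/
noncomputable def wEl : Γ := D.liftIn (D.GS k) (exists_weyl (F := F) k).choose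

theorem wEl_spec : D.wEl k ∈ D.GS k ∧ (D.π (D.wEl k) : Mat) *ᵥ stdF k = stdE k ∧
    (D.π (D.wEl k) : Mat) *ᵥ stdE k = -stdF k := by
  obtain ⟨h1, h2⟩ := D.liftIn_spec (D.exists_GS (exists_weyl (F := F) k).choose_spec.1)
  rw [wEl]
  exact ⟨h1, by rw [h2]; exact (exists_weyl (F := F) k).choose_spec.2.1,
    by rw [h2]; exact (exists_weyl (F := F) k).choose_spec.2.2⟩

theorem GS_comm {x s : Γ} (hx : x ∈ D.GS k) (hs : s ∈ D.gam (k.val + 1)) : x * s = s * x :=
  D.comm_GS_gam hx (fun _ hh => plane_commute (D.π_GS hx) hh) hs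

/-- The conjugate of an element by the Weyl element. -/
noncomputable def flip (x : Γ) : Γ := D.wEl k * x * (D.wEl k)⁻¹

theorem flip_mul (x y : Γ) : D.flip k (x * y) = D.flip k x * D.flip k y := by
  simp only [flip]; group

theorem flip_one : D.flip k 1 = 1 := by simp [flip]

theorem flip_inv (x : Γ) : D.flip k x⁻¹ = (D.flip k x)⁻¹ := by simp only [flip]; group

theorem conj_flip {l : Γ} (hl : l ∈ D.gam (k.val + 1)) (x : Γ) :
    l * D.flip k x * l⁻¹ = D.flip k (l * x * l⁻¹) := by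
  have h := D.GS_comm k (D.wEl_spec k).1 hl
  have h' := D.GS_comm k (inv_mem (D.wEl_spec k).1) (inv_mem hl)
  simp only [flip]
  calc l * (D.wEl k * x * (D.wEl k)⁻¹) * l⁻¹
      = (l * D.wEl k) * x * ((D.wEl k)⁻¹ * l⁻¹) := by group
    _ = (D.wEl k * l) * x * (l⁻¹ * (D.wEl k)⁻¹) := by rw [h, h']
    _ = _ := by group

theorem π_flip_eT {x : Γ} {v : Vec} (hv : v ∈ wSpace (k.val + 1)) {z : F}
    (h : D.π x = eT (stdF k) v z) : D.π (D.flip k x) = eT (stdE k) v z := by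
  rw [flip, map_mul, map_mul, map_inv, h, conj_eT, (D.wEl_spec k).2.1,
    plane_fix_wSpace (D.π_GS (D.wEl_spec k).1) hv]

theorem π_flip_zEl (t : F) : D.π (D.flip k (D.zEl k t)) = spT (stdE k) t := by
  rw [flip, map_mul, map_mul, map_inv, (D.zEl_spec k t).2, conj_spT, (D.wEl_spec k).2.1]

/-- Lifts of diagonal elements of the plane. -/
def IsTor (h : Γ) : Prop :=
  h ∈ D.GS k ∧ ∃ a : F, a ≠ 0 ∧ (D.π h : Mat) *ᵥ stdF k = a • stdF k ∧
    (D.π h : Mat) *ᵥ stdE k = a⁻¹ • stdE k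

theorem isTor_mul {g h : Γ} (hg : D.IsTor k g) (hh : D.IsTor k h) : D.IsTor k (g * h) := by
  obtain ⟨hg1, a, ha, a1, a2⟩ := hg
  obtain ⟨hh1, b, hb, b1, b2⟩ := hh
  refine ⟨mul_mem hg1 hh1, b * a, mul_ne_zero hb ha, ?_, ?_⟩ <;> rw [map_mul, mul_mulVec]
  · rw [b1, mulVec_smul, a1, smul_smul]
  · rw [b2, mulVec_smul, a2, smul_smul, mul_inv]

theorem isTor_inv {g : Γ} (hg : D.IsTor k g) : D.IsTor k g⁻¹ := by
  obtain ⟨hg1, a, ha, a1, a2⟩ := hg
  refine ⟨inv_mem hg1, a⁻¹, inv_ne_zero ha, ?_, ?_⟩ <;> rw [map_inv] <;> refine inv_mulVec_eq ?_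
  · rw [mulVec_smul, a1, smul_smul, inv_mul_cancel₀ ha, one_smul]
  · rw [inv_inv, mulVec_smul, a2, smul_smul, mul_inv_cancel₀ ha, one_smul]

theorem isTor_one : D.IsTor k 1 :=
  ⟨one_mem _, 1, one_ne_zero, by simp, by simp⟩

theorem isTor_flip {g : Γ} (hg : D.IsTor k g) :
    D.IsTor k ((D.wEl k)⁻¹ * g * D.wEl k) := by
  obtain ⟨hg1, a, ha, a1, a2⟩ := hg
  obtain ⟨hw, w1, w2⟩ := D.wEl_spec k
  refine ⟨mul_mem (mul_mem (inv_mem hw) hg1) hw, a⁻¹, inv_ne_zero ha, ?_, ?_⟩ <;>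
    rw [map_mul, map_mul, map_inv, mul_mulVec, mul_mulVec]
  · rw [w1, a2, mulVec_smul, inv_mulVec_eq w1]
  · rw [w2, mulVec_neg, a1, inv_inv, mulVec_neg, mulVec_smul, ← smul_neg]
    congr 1
    rw [← mulVec_neg]
    exact inv_mulVec_eq (by rw [w2])

/-- The Levi subgroup. -/
def levGrp : Subgroup Γ where
  carrier := {x | ∃ l ∈ D.gam (k.val + 1), ∃ h, D.IsTor k h ∧ x = l * h}
  one_mem' := ⟨1, one_mem _, 1, D.isTor_one k, (one_mul _).symm⟩
  mul_mem' := by
    rintro _ _ ⟨l, hl, h, hh, rfl⟩ ⟨l', hl', h', hh', rfl⟩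
    refine ⟨l * l', mul_mem hl hl', h * h', D.isTor_mul k hh hh', ?_⟩
    calc l * h * (l' * h') = l * (h * l') * h' := by group
      _ = l * (l' * h) * h' := by rw [D.GS_comm k hh.1 hl']
      _ = _ := by group
  inv_mem' := by
    rintro _ ⟨l, hl, h, hh, rfl⟩
    exact ⟨l⁻¹, inv_mem hl, h⁻¹, D.isTor_inv k hh,
      by rw [_root_.mul_inv_rev, D.GS_comm k (inv_mem hh.1) (inv_mem hl)]⟩

theorem gam_le_levGrp : D.gam (k.val + 1) ≤ D.levGrp k :=
  fun l hl => ⟨l, hl, 1, D.isTor_one k, (mul_one l).symm⟩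

theorem isTor_mem_levGrp {h : Γ} (hh : D.IsTor k h) : h ∈ D.levGrp k :=
  ⟨1, one_mem _, h, hh, (one_mul h).symm⟩

theorem levGrp_mulVec {x : Γ} (hx : x ∈ D.levGrp k) :
    ∃ a : F, a ≠ 0 ∧ (D.π x : Mat) *ᵥ stdF k = a • stdF k := by
  obtain ⟨l, hl, h, ⟨-, a, ha, a1, -⟩, rfl⟩ := hx
  exact ⟨a, ha, by rw [map_mul, mul_mulVec, a1, mulVec_smul, (fixK_succ.1 (D.π_gam hl)).2.1]⟩

variable {k} (hF : D.AddBase) (ih : Inj D.π (D.gam (k.val + 1)))

include hF ih in
theorem π_upper {v : Vec} (hv : v ∈ wSpace (k.val + 1)) (z : F) :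
    D.π (D.xi k v * D.zEl k z) = eT (stdF k) v z := by
  rw [map_mul, D.π_xi hF ih hv, (D.zEl_spec k z).2, eT_mul_spT (form_zero_of_wSpace hv).1, zero_add]

/-- The upper unipotent subgroup. -/
noncomputable def upGrp (hF : D.AddBase) (ih : Inj D.π (D.gam (k.val + 1))) :
    Subgroup Γ where
  carrier := {x | ∃ v ∈ wSpace (k.val + 1), ∃ z : F, x = D.xi k v * D.zEl k z}
  one_mem' := ⟨0, Submodule.zero_mem _, 0, by rw [xi_zero, zEl_zero, one_mul]⟩
  mul_mem' := by
    rintro _ _ ⟨v, hv, z, rfl⟩ ⟨v', hv', z', rfl⟩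
    refine ⟨v + v', Submodule.add_mem _ hv hv', B v' v + (z + z'), ?_⟩
    calc D.xi k v * D.zEl k z * (D.xi k v' * D.zEl k z')
        = D.xi k v * (D.zEl k z * D.xi k v') * D.zEl k z' := by group
      _ = (D.xi k v * D.xi k v') * (D.zEl k z * D.zEl k z') := by
        rw [D.zEl_comm_xi hF ih z hv']; group
      _ = _ := by rw [D.xi_add hF ih hv hv', ← D.zEl_add, mul_assoc, ← D.zEl_add]
  inv_mem' := by
    rintro _ ⟨v, hv, z, rfl⟩
    refine ⟨-v, Submodule.neg_mem _ hv, -z, inv_eq_of_mul_eq_one_right ?_⟩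
    calc D.xi k v * D.zEl k z * (D.xi k (-v) * D.zEl k (-z))
        = D.xi k v * (D.zEl k z * D.xi k (-v)) * D.zEl k (-z) := by group
      _ = (D.xi k v * D.xi k (-v)) * (D.zEl k z * D.zEl k (-z)) := by
        rw [D.zEl_comm_xi hF ih z (Submodule.neg_mem _ hv)]; group
      _ = 1 := by
        rw [D.xi_add hF ih hv (Submodule.neg_mem _ hv), ← D.zEl_add, add_neg_cancel, add_neg_cancel,
          form_neg_left, form_self, neg_zero, xi_zero, zEl_zero, one_mul, one_mul]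

/-- The lower unipotent subgroup. -/
noncomputable def loGrp (hF : D.AddBase) (ih : Inj D.π (D.gam (k.val + 1))) :
    Subgroup Γ :=
  (D.upGrp hF ih).map (MulAut.conj (D.wEl k)).toMonoidHom

include hF ih in
theorem mem_loGrp {y : Γ} : y ∈ D.loGrp hF ih ↔
    ∃ v ∈ wSpace (k.val + 1), ∃ z : F, y = D.flip k (D.xi k v * D.zEl k z) := by
  constructor
  · rintro ⟨x, ⟨v, hv, z, rfl⟩, rfl⟩
    exact ⟨v, hv, z, rfl⟩
  · rintro ⟨v, hv, z, rfl⟩
    exact ⟨_, ⟨v, hv, z, rfl⟩, rfl⟩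

include hF ih in
theorem flip_mem_loGrp {x : Γ} (hx : x ∈ D.upGrp hF ih) : D.flip k x ∈ D.loGrp hF ih :=
  ⟨x, hx, rfl⟩

include hF ih in
theorem zEl_mem_upGrp (z : F) : D.zEl k z ∈ D.upGrp hF ih :=
  ⟨0, Submodule.zero_mem _, z, by rw [xi_zero, one_mul]⟩

include hF ih in
theorem xi_mem_upGrp {v : Vec} (hv : v ∈ wSpace (k.val + 1)) : D.xi k v ∈ D.upGrp hF ih :=
  ⟨v, hv, 0, by rw [zEl_zero, mul_one]⟩

include hF ih in
theorem conj_tor_upper {h : Γ} (hh : D.IsTor k h) {v : Vec} (hv : v ∈ wSpace (k.val + 1)) (z : F) :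
    h * (D.xi k v * D.zEl k z) * h⁻¹ ∈ D.upGrp hF ih := by
  obtain ⟨hG, a, ha, a1, a2⟩ := hh
  have hz : h * D.zEl k z * h⁻¹ = D.zEl k (a ^ 2 * z) :=
    (D.injGS k).eq (mul_mem (mul_mem hG (D.zEl_spec k z).1) (inv_mem hG)) (D.zEl_spec k _).1 (by
      rw [map_mul, map_mul, map_inv, (D.zEl_spec k z).2, (D.zEl_spec k _).2, conj_spT, a1, spT_smul])
  have hx : h * D.xi k v * h⁻¹ = D.xi k (a • v) := by
    rcases eq_or_ne v 0 with rfl | h0
    · rw [smul_zero, xi_zero, mul_one, mul_inv_cancel]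
    have hk := lt_of_wSpace hv h0
    obtain ⟨l, hl, e⟩ := D.exists_to hF ih hk hv h0
    have hfix : (D.π h : Mat) *ᵥ stdF (nx hk) = stdF (nx hk) :=
      plane_fix_wSpace (D.π_GS hG) (stdF_mem_wSpace (j := nx hk) le_rfl)
    have hb : h * D.xBase hk * h⁻¹ = D.xi k (a • stdF (nx hk)) :=
      (D.inj_MS k k hk).eq (mul_mem (mul_mem (Subgroup.mem_sup_right hG)
        (Subgroup.mem_sup_left (D.xBase_spec hk).1)) (inv_mem (Subgroup.mem_sup_right hG)))
        (Subgroup.mem_sup_left (D.xi_mem_GM hF ih hk a)) (by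
        rw [map_mul, map_mul, map_inv, (D.xBase_spec hk).2, conj_eT, a1, hfix,
          eT_smul_left (form_e_nx hk), mul_zero,
          D.π_xi hF ih (Submodule.smul_mem _ a (stdF_mem_wSpace (j := nx hk) le_rfl))])
    have hc := D.GS_comm k hG hl
    have hc' := D.GS_comm k (inv_mem hG) (inv_mem hl)
    rw [D.xi_eq hF ih hk hl e]
    calc h * (l * D.xBase hk * l⁻¹) * h⁻¹
        = (h * l) * D.xBase hk * (l⁻¹ * h⁻¹) := by group
      _ = l * (h * D.xBase hk * h⁻¹) * l⁻¹ := by rw [hc, ← hc']; group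
      _ = D.xi k (a • v) := by
        rw [hb, D.conj_xi hF ih hl (Submodule.smul_mem _ a (stdF_mem_wSpace (j := nx hk) le_rfl)),
          mulVec_smul, e]
  refine ⟨a • v, Submodule.smul_mem _ a hv, a ^ 2 * z, ?_⟩
  rw [← hx, ← hz]; group

include hF ih in
theorem conj_lev_upper : ∀ x ∈ D.levGrp k, ∀ u ∈ D.upGrp hF ih, x * u * x⁻¹ ∈ D.upGrp hF ih := by
  rintro _ ⟨l, hl, h, hh, rfl⟩ _ ⟨v, hv, z, rfl⟩
  obtain ⟨v', hv', z', e⟩ := D.conj_tor_upper hF ih hh hv z
  refine ⟨(D.π l : Mat) *ᵥ v', mulVec_mem_wSpace (D.π_gam hl) hv', z', ?_⟩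
  calc l * h * (D.xi k v * D.zEl k z) * (l * h)⁻¹
      = l * (h * (D.xi k v * D.zEl k z) * h⁻¹) * l⁻¹ := by group
    _ = (l * D.xi k v' * l⁻¹) * (l * D.zEl k z' * l⁻¹) := by rw [e]; group
    _ = _ := by
      rw [D.conj_xi hF ih hl hv', ← D.zEl_comm_gam k z' hl, mul_inv_cancel_right]

include hF ih in
theorem conj_lev_lower : ∀ x ∈ D.levGrp k, ∀ y ∈ D.loGrp hF ih, x * y * x⁻¹ ∈ D.loGrp hF ih := by
  rintro x hx _ hy
  obtain ⟨v, hv, z, rfl⟩ := (D.mem_loGrp hF ih).1 hy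
  obtain ⟨l, hl, h, hh, rfl⟩ := hx
  have h1 := D.conj_lev_upper hF ih _ (D.isTor_mem_levGrp k (D.isTor_flip k hh)) _ ⟨v, hv, z, rfl⟩
  have h2 := D.conj_lev_upper hF ih _ (D.gam_le_levGrp k hl) _ h1
  have e : l * h * D.flip k (D.xi k v * D.zEl k z) * (l * h)⁻¹ =
      D.flip k (l * ((D.wEl k)⁻¹ * h * D.wEl k * (D.xi k v * D.zEl k z) *
        ((D.wEl k)⁻¹ * h * D.wEl k)⁻¹) * l⁻¹) := by
    rw [← D.conj_flip k hl]
    simp only [flip]; group
  rw [e]
  exact D.flip_mem_loGrp hF ih h2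

include hF ih in
theorem upGrp_le : D.upGrp hF ih ≤ D.gam k.val := by
  rintro _ ⟨v, hv, z, rfl⟩
  refine mul_mem ?_ (D.GS_le_gam le_rfl (D.zEl_spec k z).1)
  rcases eq_or_ne v 0 with rfl | h0
  · rw [xi_zero]; exact one_mem _
  have hk := lt_of_wSpace hv h0
  obtain ⟨l, hl, e⟩ := D.exists_to hF ih hk hv h0
  have hl' := D.gam_anti (Nat.le_succ _) hl
  rw [D.xi_eq hF ih hk hl e]
  exact mul_mem (mul_mem hl' (D.GM_le_gam le_rfl hk (D.xBase_spec hk).1)) (inv_mem hl')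

include hF ih in
theorem loGrp_le : D.loGrp hF ih ≤ D.gam k.val := by
  intro y hy
  obtain ⟨v, hv, z, rfl⟩ := (D.mem_loGrp hF ih).1 hy
  exact mul_mem (mul_mem (D.GS_le_gam le_rfl (D.wEl_spec k).1)
    (D.upGrp_le hF ih ⟨v, hv, z, rfl⟩)) (inv_mem (D.GS_le_gam le_rfl (D.wEl_spec k).1))

theorem levGrp_le : D.levGrp k ≤ D.gam k.val := by
  rintro _ ⟨l, hl, h, hh, rfl⟩
  exact mul_mem (D.gam_anti (Nat.le_succ _) hl) (D.GS_le_gam le_rfl hh.1)

/-- The big cell. -/
noncomputable def bigCell (hF : D.AddBase) (ih : Inj D.π (D.gam (k.val + 1))) :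
    Set Γ :=
  cell (D.loGrp hF ih) (D.levGrp k) (D.upGrp hF ih)

include hF ih in
theorem cell_left {x : Γ} (hx : x ∈ D.bigCell hF ih) {v l : Γ} (hv : v ∈ D.loGrp hF ih)
    (hl : l ∈ D.levGrp k) : v * (l * x) ∈ D.bigCell hF ih := by
  obtain ⟨v', hv', l', hl', u', hu', rfl⟩ := hx
  exact ⟨v * (l * v' * l⁻¹), mul_mem hv (D.conj_lev_lower hF ih l hl v' hv'), l * l',
    mul_mem hl hl', u', hu', by group⟩

include hF ih in
theorem cell_right {x : Γ} (hx : x ∈ D.bigCell hF ih) {l u : Γ} (hl : l ∈ D.levGrp k)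
    (hu : u ∈ D.upGrp hF ih) : x * (l * u) ∈ D.bigCell hF ih := by
  obtain ⟨v', hv', l', hl', u', hu', rfl⟩ := hx
  refine ⟨v', hv', l' * l, mul_mem hl' hl, l⁻¹ * u' * l * u, mul_mem ?_ hu, by group⟩
  simpa using D.conj_lev_upper hF ih l⁻¹ (inv_mem hl) u' hu'

include hF ih in
theorem upper_fix {u : Γ} (hu : u ∈ D.upGrp hF ih) : (D.π u : Mat) *ᵥ stdF k = stdF k := by
  obtain ⟨v, hv, z, rfl⟩ := hu
  rw [D.π_upper hF ih hv]
  exact eT_fix (form_zero_of_wSpace hv).1 z (form_self _) (form_zero_of_wSpace hv).1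

include hF ih in
theorem corner_of_cell {x : Γ} (hx : x ∈ D.bigCell hF ih) : corner k (D.π x) ≠ 0 := by
  obtain ⟨y, hy, l, hl, u, hu, rfl⟩ := hx
  obtain ⟨v, hv, z, rfl⟩ := (D.mem_loGrp hF ih).1 hy
  obtain ⟨a, ha, e⟩ := D.levGrp_mulVec k hl
  rw [map_mul, map_mul, D.π_flip_eT k hv (D.π_upper hF ih hv z), mul_assoc, corner_lower_mul hv,
    corner, mul_mulVec, D.upper_fix hF ih hu, e, form_smul_right, form_stdE_stdF, if_pos rfl, mul_one]
  exact ha

include hF ih in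
theorem mem_image_cell {g : Sp} (hg : g ∈ fixK k.val) (hc : corner k g ≠ 0) :
    g ∈ D.π '' D.bigCell hF ih := by
  obtain ⟨v, hv, z, t, ht, t1, t2, v', hv', z', s, hs, e⟩ := cell_decomp hg hc
  obtain ⟨l, hl, el⟩ := D.exists_gam hs
  obtain ⟨h, hh, eh⟩ := D.exists_GS ht
  have hv'' := mulVec_mem_wSpace (inv_mem hs) hv'
  refine ⟨D.flip k (D.xi k v * D.zEl k z) * (l * h) *
      (D.xi k (((s⁻¹ : Sp) : Mat) *ᵥ v') * D.zEl k z'),
    ⟨_, D.flip_mem_loGrp hF ih ⟨v, hv, z, rfl⟩, l * h,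
      ⟨l, hl, h, ⟨hh, _, hc, by rw [eh]; exact t1, by rw [eh]; exact t2⟩, rfl⟩,
      _, ⟨_, hv'', z', rfl⟩, rfl⟩, ?_⟩
  rw [map_mul, map_mul, map_mul, el, eh, D.π_flip_eT k hv (D.π_upper hF ih hv z),
    D.π_upper hF ih hv'', e]
  have he : s⁻¹ * eT (stdF k) v' z' * s = eT (stdF k) (((s⁻¹ : Sp) : Mat) *ᵥ v') z' := by
    have := conj_eT s⁻¹ (stdF k) v' z'
    rw [inv_inv, (fixK_succ.1 (inv_mem hs)).2.1] at this
    exact this
  rw [← he, ← plane_commute ht hs]
  group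

include hF ih in
/-- Uniqueness in the cell. -/
theorem cell_unique : ∀ y ∈ D.loGrp hF ih, ∀ x ∈ D.levGrp k, ∀ u ∈ D.upGrp hF ih,
    D.π (y * x * u) = 1 → y * x * u = 1 := by
  intro y hy x hx u hu h1
  obtain ⟨v, hv, z, rfl⟩ := (D.mem_loGrp hF ih).1 hy
  obtain ⟨l, hl, h, hh, rfl⟩ := hx
  obtain ⟨v', hv', z', rfl⟩ := hu
  obtain ⟨hG, a, -, a1, a2⟩ := hh
  rw [map_mul, map_mul, map_mul, D.π_flip_eT k hv (D.π_upper hF ih hv z),
    D.π_upper hF ih hv'] at h1
  have hlf := fixK_succ.1 (D.π_gam hl)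
  obtain ⟨w1, w2⟩ := form_zero_of_wSpace hv
  obtain ⟨w1', w2'⟩ := form_zero_of_wSpace hv'
  have hE := congrArg (fun g : Sp => (g : Mat) *ᵥ stdF k) h1
  simp only [mul_mulVec, Submonoid.coe_one, one_mulVec] at hE
  rw [eT_fix w1' z' (form_self _) w1', a1, mulVec_smul, hlf.2.1, mulVec_smul,
    eT_stdE_mulVec_stdF hv] at hE
  have ha1 : a = 1 := by
    have := congrArg (fun p => B (stdE k) p) hE
    simp only [form_smul_right, form_sub_right, w2, form_self, form_stdE_stdF, if_true] at this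
    linear_combination this
  rw [ha1, one_smul, sub_sub, sub_eq_self] at hE
  have hz : z = 0 := by
    have := congrArg (fun p => B p (stdF k)) hE
    simp only [form_add_left, form_smul_left, form_eq_zero_comm.1 w1, form_stdE_stdF, if_true,
      form_zero_left] at this
    linear_combination this
  have hv0 : v = 0 := by rw [hz, zero_smul, add_zero] at hE; exact hE
  subst hz hv0
  rw [eT_zero_zero, one_mul] at h1
  have hf := congrArg (fun g : Sp => (g : Mat) *ᵥ stdE k) h1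
  simp only [mul_mulVec, Submonoid.coe_one, one_mulVec] at hf
  rw [eT_stdF_mulVec_stdE hv', mulVec_add (D.π h : Mat) (stdE k + v'), mulVec_add (D.π h : Mat) (stdE k),
    mulVec_smul, a2, ha1, inv_one, one_smul, a1,
    ha1, one_smul, plane_fix_wSpace (D.π_GS hG) hv', mulVec_add, mulVec_add, mulVec_smul, hlf.2.1,
    hlf.2.2, add_assoc, add_eq_left] at hf
  have hz' : z' = 0 := by
    have := congrArg (fun p => B (stdE k) p) hf
    simp only [form_add_right, form_smul_right, (form_zero_of_wSpace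
      (mulVec_mem_wSpace (D.π_gam hl) hv')).2, form_stdE_stdF, if_true, form_zero_right] at this
    linear_combination this
  rw [hz', zero_smul, add_zero] at hf
  have hv0' : v' = 0 := by
    by_contra hne
    exact mulVec_ne_zero (D.π l) hne hf
  subst hz' hv0'
  rw [eT_zero_zero, mul_one] at h1
  have hh1 : h = 1 := by
    refine D.injGS k h hG (plane_eq_one (D.π_GS hG) ?_)
    rw [eq_inv_of_mul_eq_one_right h1]
    exact inv_mem (D.π_gam hl)
  subst hh1
  rw [map_one, mul_one] at h1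
  rw [ih l hl h1]
  simp [xi_zero, zEl_zero, flip_one]

include hF ih in
theorem conj_lower (b : F) {v : Vec} (hv : v ∈ wSpace (k.val + 1)) :
    ∃ s ∈ D.gam (k.val + 1), (D.flip k (D.xi k v))⁻¹ * D.zEl k b * D.flip k (D.xi k v) =
      D.xi k (b • v) * D.zEl k b * s := by
  rcases eq_or_ne v 0 with rfl | h0
  · exact ⟨1, one_mem _, by simp [xi_zero, flip_one, smul_zero]⟩
  have hk := lt_of_wSpace hv h0
  obtain ⟨l, hl, e⟩ := D.exists_to hF ih hk hv h0
  obtain ⟨S, hS, eS⟩ := D.exists_GM hk (spT_mem_mGrp hk (Or.inr rfl) b)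
  obtain ⟨S', hS', eS'⟩ := D.exists_GS (plane_spT (stdF_mem_planeSpace (F := F) (nx hk)) b)
  have hSgam : S ∈ D.gam (k.val + 1) := by
    rw [(D.inj_MS k (nx hk) hk).eq (Subgroup.mem_sup_left hS) (Subgroup.mem_sup_right hS')
      (by rw [eS, eS'])]
    exact D.GS_le_gam (j := nx hk) le_rfl hS'
  have hy : D.flip k (D.xBase hk) ∈ D.GM k ⊔ D.GS k := mul_mem (mul_mem
    (Subgroup.mem_sup_right (D.wEl_spec k).1) (Subgroup.mem_sup_left (D.xBase_spec hk).1))
    (inv_mem (Subgroup.mem_sup_right (D.wEl_spec k).1))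
  have hW := stdF_mem_wSpace (F := F) (j := nx hk) (k := k.val + 1) le_rfl
  have h0' : (D.flip k (D.xBase hk))⁻¹ * D.zEl k b * D.flip k (D.xBase hk) =
      D.xi k (b • stdF (nx hk)) * D.zEl k b * S := by
    refine (D.inj_MS k k hk).eq (mul_mem (mul_mem (inv_mem hy)
      (Subgroup.mem_sup_right (D.zEl_spec k b).1)) hy)
      (mul_mem (mul_mem (Subgroup.mem_sup_left (D.xi_mem_GM hF ih hk b))
        (Subgroup.mem_sup_right (D.zEl_spec k b).1)) (Subgroup.mem_sup_left hS)) ?_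
    rw [map_mul _ (D.xi k _ * _), D.π_upper hF ih (Submodule.smul_mem _ b hW), eS,
      ← spT_add_vec (form_e_nx hk), map_mul, map_mul, map_inv, (D.zEl_spec k b).2]
    have hinv := conj_spT (D.π (D.flip k (D.xBase hk)))⁻¹ (stdF k) b
    rw [inv_inv] at hinv
    rw [hinv, D.π_flip_eT k hW (D.xBase_spec hk).2, eT_inv (form_zero_of_wSpace hW).2,
      eT_stdE_mulVec_stdF (Submodule.neg_mem _ hW), neg_zero, zero_smul, sub_zero, sub_neg_eq_add]
  refine ⟨l * S * l⁻¹, mul_mem (mul_mem hl hSgam) (inv_mem hl), ?_⟩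
  have hz := D.zEl_comm_gam k b hl
  rw [D.xi_eq hF ih hk hl e, ← D.conj_flip k hl, ← e, ← mulVec_smul,
    ← D.conj_xi hF ih hl (Submodule.smul_mem _ b hW)]
  calc (l * D.flip k (D.xBase hk) * l⁻¹)⁻¹ * D.zEl k b * (l * D.flip k (D.xBase hk) * l⁻¹)
      = l * (D.flip k (D.xBase hk))⁻¹ * l⁻¹ * (D.zEl k b * l) * D.flip k (D.xBase hk) * l⁻¹ := by
        group
    _ = l * ((D.flip k (D.xBase hk))⁻¹ * D.zEl k b * D.flip k (D.xBase hk)) * l⁻¹ := by
        rw [hz]; group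
    _ = l * D.xi k (b • stdF (nx hk)) * (D.zEl k b * S) * l⁻¹ := by rw [h0']; group
    _ = l * D.xi k (b • stdF (nx hk)) * l⁻¹ * (l * D.zEl k b) * (S * l⁻¹) := by group
    _ = _ := by rw [← hz]; group

include hF ih in
/-- The plane part of the rewriting. -/
theorem zEl_mul_flip (b t : F) (hc : corner k (spT (stdF k) b * spT (stdE k) t) ≠ 0) :
    ∃ (a : F) (h : Γ) (b' : F), D.IsTor k h ∧
      D.zEl k b * D.flip k (D.zEl k t) = D.flip k (D.zEl k a) * h * D.zEl k b' := by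
  obtain ⟨a, g, b', hg, g1, g2, e⟩ := plane_decomp
    (mul_mem (plane_spT (stdF_mem_planeSpace k) b) (plane_spT (stdE_mem_planeSpace k) t)) hc
  obtain ⟨h, hh, eh⟩ := D.exists_GS hg
  have hfl : ∀ c, D.flip k (D.zEl k c) ∈ D.GS k := fun c =>
    mul_mem (mul_mem (D.wEl_spec k).1 (D.zEl_spec k c).1) (inv_mem (D.wEl_spec k).1)
  refine ⟨a, h, b', ⟨hh, _, hc, by rw [eh]; exact g1, by rw [eh]; exact g2⟩,
    (D.injGS k).eq (mul_mem (D.zEl_spec k b).1 (hfl t))
      (mul_mem (mul_mem (hfl a) hh) (D.zEl_spec k b').1) ?_⟩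
  simp only [map_mul, D.π_flip_zEl, (D.zEl_spec k _).2, eh, e]

include hF ih in
theorem corner_zEl_mul (b : F) {v : Vec} (hv : v ∈ wSpace (k.val + 1)) (t : F) :
    corner k (spT (stdF k) b * eT (stdE k) v t) = 1 - b * t := by
  rw [corner, mul_mulVec, eT_stdE_mulVec_stdF hv, spT_mulVec]
  simp only [form_add_right, form_sub_right, form_smul_right, form_sub_left, form_smul_left,
    form_self, form_stdE_stdF, form_eq_zero_comm.1 (form_zero_of_wSpace hv).1,
    (form_zero_of_wSpace hv).2, if_true]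
  ring

include hF ih in
theorem zEl_cell (b : F) {y : Γ} (hy : y ∈ D.loGrp hF ih)
    (hc : corner k (D.π (D.zEl k b * y)) ≠ 0) : D.zEl k b * y ∈ D.bigCell hF ih := by
  obtain ⟨v, hv, t, rfl⟩ := (D.mem_loGrp hF ih).1 hy
  have hc' : corner k (spT (stdF k) b * spT (stdE k) t) ≠ 0 := by
    rw [← eT_zero (stdE k) t, D.corner_zEl_mul hF ih b (Submodule.zero_mem _),
      ← D.corner_zEl_mul hF ih b hv]
    rwa [map_mul, D.π_flip_eT k hv (D.π_upper hF ih hv t), (D.zEl_spec k b).2] at hc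
  obtain ⟨a, h, b', hh, e⟩ := D.zEl_mul_flip hF ih b t hc'
  obtain ⟨s, hs, es⟩ := D.conj_lower hF ih b' hv
  have hu := mul_mem (D.xi_mem_upGrp hF ih (Submodule.smul_mem _ b' hv)) (D.zEl_mem_upGrp hF ih b')
  have hY : D.flip k (D.xi k v) ∈ D.loGrp hF ih := D.flip_mem_loGrp hF ih (D.xi_mem_upGrp hF ih hv)
  have h2 : D.zEl k b' * D.flip k (D.xi k v) ∈ D.bigCell hF ih := by
    refine ⟨_, hY, s, D.gam_le_levGrp k hs, s⁻¹ * (D.xi k (b' • v) * D.zEl k b') * s,
      by simpa using D.conj_lev_upper hF ih s⁻¹ (inv_mem (D.gam_le_levGrp k hs)) _ hu, ?_⟩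
    calc D.zEl k b' * D.flip k (D.xi k v)
        = D.flip k (D.xi k v) *
            ((D.flip k (D.xi k v))⁻¹ * D.zEl k b' * D.flip k (D.xi k v)) := by group
      _ = _ := by rw [es]; group
  have h3 := D.cell_left hF ih h2 (D.flip_mem_loGrp hF ih (D.zEl_mem_upGrp hF ih a))
    (D.isTor_mem_levGrp k hh)
  rw [← D.zEl_comm_xi hF ih t hv, flip_mul, ← mul_assoc, e]
  convert h3 using 1
  group

include hF ih in
theorem upper_cell_of_ne {v : Vec} (hv : v ∈ wSpace (k.val + 1)) {z : F} (hz : z ≠ 0) {y : Γ}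
    (hy : y ∈ D.loGrp hF ih) (hc : corner k (D.π (D.xi k v * D.zEl k z * y)) ≠ 0) :
    D.xi k v * D.zEl k z * y ∈ D.bigCell hF ih := by
  have hv' := Submodule.smul_mem (wSpace (m := m) (F := F) (k.val + 1)) z⁻¹ hv
  obtain ⟨s, hs, es⟩ := D.conj_lower hF ih z hv'
  rw [smul_smul, mul_inv_cancel₀ hz, one_smul] at es
  set Y := D.flip k (D.xi k (z⁻¹ • v))
  have hY : Y ∈ D.loGrp hF ih := D.flip_mem_loGrp hF ih (D.xi_mem_upGrp hF ih hv')
  have hy' : Y * (s⁻¹ * y * s) ∈ D.loGrp hF ih := mul_mem hY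
    (by simpa using D.conj_lev_lower hF ih s⁻¹ (inv_mem (D.gam_le_levGrp k hs)) y hy)
  have e : D.xi k v * D.zEl k z * y = Y⁻¹ * (D.zEl k z * (Y * (s⁻¹ * y * s))) * s⁻¹ := by
    rw [show D.xi k v * D.zEl k z = Y⁻¹ * D.zEl k z * Y * s⁻¹ by rw [es]; group]
    group
  rw [e] at hc ⊢
  obtain ⟨vY, hvY, zY, eY⟩ := (D.mem_loGrp hF ih).1 (inv_mem hY)
  rw [map_mul, corner_mul (a := 1)
    (by rw [one_smul]; exact (fixK_succ.1 (D.π_gam (inv_mem hs))).2.1), one_mul, map_mul, eY,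
    D.π_flip_eT k hvY (D.π_upper hF ih hvY zY), corner_lower_mul hvY] at hc
  have h1 := D.zEl_cell hF ih z hy' hc
  have h2 := D.cell_right hF ih (D.cell_left hF ih h1 (inv_mem hY) (one_mem _))
    (inv_mem (D.gam_le_levGrp k hs)) (one_mem _)
  rwa [one_mul, mul_one] at h2

include hF ih in
/-- Upper elements are determined by their projections. -/
theorem upper_eq {u : Γ} (hu : u ∈ D.upGrp hF ih) {v : Vec} (hv : v ∈ wSpace (k.val + 1)) {z : F}
    (h : D.π u = eT (stdF k) v z) : u = D.xi k v * D.zEl k z := by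
  obtain ⟨v', hv', z', rfl⟩ := hu
  rw [D.π_upper hF ih hv'] at h
  have e := congrArg (fun g : Sp => (g : Mat) *ᵥ stdE k) h
  simp only [eT_stdF_mulVec_stdE hv', eT_stdF_mulVec_stdE hv] at e
  have hz : z' = z := by
    have := congrArg (fun p => B (stdE k) p) e
    simp only [form_add_right, form_smul_right, form_self, (form_zero_of_wSpace hv').2,
      (form_zero_of_wSpace hv).2, form_stdE_stdF, if_true] at this
    linear_combination this
  subst hz
  rw [add_left_inj, add_right_inj] at e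
  rw [e]

include hF ih in
/-- Conjugates of lower long root elements by upper short root elements. -/
theorem conj_upper {v : Vec} (hv : v ∈ wSpace (k.val + 1)) (t : F) :
    ∃ Y ∈ D.loGrp hF ih, ∃ s ∈ D.gam (k.val + 1),
      D.xi k v * D.flip k (D.zEl k t) = Y * s * D.xi k v := by
  obtain ⟨hw, w1, w2⟩ := D.wEl_spec k
  obtain ⟨s, hs, es⟩ := D.conj_lower hF ih t hv
  have hflip : D.flip k (D.flip k (D.xi k v)) = D.xi k (-v) := by
    have hW : D.IsTor k (D.wEl k * D.wEl k) :=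
      ⟨mul_mem hw hw, -1, neg_ne_zero.2 one_ne_zero,
        by rw [map_mul, mul_mulVec, w1, w2, neg_smul, one_smul],
        by rw [map_mul, mul_mulVec, w2, mulVec_neg, w1, inv_neg, inv_one, neg_smul, one_smul]⟩
    have h := D.conj_tor_upper hF ih hW hv 0
    rw [zEl_zero, mul_one] at h
    have e := D.upper_eq hF ih h (Submodule.neg_mem _ hv) (z := 0) (by
      rw [map_mul, map_mul, map_inv, D.π_xi hF ih hv, conj_eT, map_mul, mul_mulVec, w1, w2,
        plane_fix_wSpace (mul_mem (D.π_GS hw) (D.π_GS hw)) hv,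
        show -stdF (F := F) k = (-1 : F) • stdF k by module, eT_smul_left (form_zero_of_wSpace hv).1]
      simp)
    rw [zEl_zero, mul_one] at e
    rw [← e]; simp only [flip]; group
  have hsc : D.flip k s = s := by
    rw [flip, D.GS_comm k hw hs, mul_inv_cancel_right]
  have e := congrArg (D.flip k) es
  rw [flip_mul, flip_mul, flip_inv, hflip, flip_mul _ _ _ s, hsc] at e
  have hinv : D.xi k (-v) = (D.xi k v)⁻¹ := eq_inv_of_mul_eq_one_right (by
    rw [D.xi_add hF ih hv (Submodule.neg_mem _ hv), form_neg_left, form_self, neg_zero, zEl_zero,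
      add_neg_cancel, xi_zero, mul_one])
  rw [hinv, inv_inv] at e
  exact ⟨_, D.flip_mem_loGrp hF ih (mul_mem (D.xi_mem_upGrp hF ih (Submodule.smul_mem _ t hv))
    (D.zEl_mem_upGrp hF ih t)), s, hs, by rw [← e]; group⟩

include hF ih in
theorem upper_cell {u y : Γ} (hu : u ∈ D.upGrp hF ih) (hy : y ∈ D.loGrp hF ih)
    (hc : corner k (D.π (u * y)) ≠ 0) : u * y ∈ D.bigCell hF ih := by
  obtain ⟨v, hv, z, rfl⟩ := hu
  by_cases hz : z = 0
  swap
  · exact D.upper_cell_of_ne hF ih hv hz hy hc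
  subst hz
  obtain ⟨vy, hvy, t, rfl⟩ := (D.mem_loGrp hF ih).1 hy
  obtain ⟨Y, hY, s, hs, es⟩ := D.conj_upper hF ih hv t
  set y₀ := D.flip k (D.xi k vy) with hy₀
  have hy0m : y₀ ∈ D.loGrp hF ih := D.flip_mem_loGrp hF ih (D.xi_mem_upGrp hF ih hvy)
  have e0 : D.xi k v * D.zEl k 0 * D.flip k (D.xi k vy * D.zEl k t) = Y * (s * (D.xi k v * y₀)) := by
    rw [zEl_zero, mul_one, ← D.zEl_comm_xi hF ih t hvy, flip_mul, ← mul_assoc, es, hy₀]
    group
  rw [e0] at hc ⊢
  obtain ⟨vY, hvY, zY, eY⟩ := (D.mem_loGrp hF ih).1 hY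
  have hs' := (fixK_succ.1 (inv_mem (D.π_gam hs))).2.2
  rw [map_mul, eY, D.π_flip_eT k hvY (D.π_upper hF ih hvY zY), corner_lower_mul hvY, map_mul,
    corner, mul_mulVec, ← form_mulVec (D.π s)⁻¹, hs', inv_mulVec_cancel] at hc
  suffices h : D.xi k v * y₀ ∈ D.bigCell hF ih from
    D.cell_left hF ih h hY (D.gam_le_levGrp k hs)
  have ey : D.π y₀ = eT (stdE k) vy 0 := D.π_flip_eT k hvy (D.π_xi hF ih hvy)
  have h0 : D.zEl k (-1) * y₀ ∈ D.bigCell hF ih := by
    refine D.zEl_cell hF ih (-1) hy0m ?_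
    rw [map_mul, ey, (D.zEl_spec k _).2, D.corner_zEl_mul hF ih _ hvy, mul_zero, sub_zero]
    exact one_ne_zero
  obtain ⟨y', hy', l', hl', u', hu', e'⟩ := h0
  have e : D.xi k v * y₀ = D.xi k v * D.zEl k 1 * y' * (l' * u') := by
    calc D.xi k v * y₀ = D.xi k v * D.zEl k 1 * (D.zEl k (-1) * y₀) := by rw [zEl_neg]; group
      _ = _ := by rw [e']; group
  change corner k (D.π (D.xi k v * y₀)) ≠ 0 at hc
  rw [e] at hc ⊢
  obtain ⟨a, ha, ea⟩ := D.levGrp_mulVec k hl'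
  rw [map_mul, corner_mul (a := a) (by rw [map_mul, mul_mulVec, D.upper_fix hF ih hu', ea])] at hc
  exact D.cell_right hF ih
    (D.upper_cell_of_ne hF ih hv one_ne_zero hy' (right_ne_zero_of_mul hc)) hl' hu'

include hF ih in
theorem gam_le_sup : D.gam k.val ≤ D.upGrp hF ih ⊔ D.loGrp hF ih ⊔ D.levGrp k := by
  set A := D.upGrp hF ih ⊔ D.loGrp hF ih ⊔ D.levGrp k
  have hU : D.upGrp hF ih ≤ A := le_trans le_sup_left le_sup_left
  have hV : D.loGrp hF ih ≤ A := le_trans le_sup_right le_sup_left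
  have hL : D.levGrp k ≤ A := le_sup_right
  refine D.gam_le (fun j hj => ?_) fun i hi hi' => ?_
  · rcases Nat.eq_or_lt_of_le hj with e | hlt
    swap
    · exact le_trans (D.GS_le_gam hlt) ((D.gam_le_levGrp k).trans hL)
    obtain rfl : k = j := Fin.ext e
    intro x hx
    have hg := D.π_GS hx
    obtain ⟨z, hz⟩ : ∃ z : F, corner k (spT (stdF k) z * D.π x) ≠ 0 := by
      have hp := planeSpace_eq (mulVec_mem_planeSpace hg (stdF_mem_planeSpace (F := F) k))
      by_cases h : corner k (D.π x) = 0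
      · refine ⟨1, ?_⟩
        rw [corner, mul_mulVec, spT_mulVec, form_add_right, form_smul_right, form_stdE_stdF,
          if_pos rfl, one_mul, mul_one]
        rw [corner] at h
        rw [h, zero_add]
        intro e
        rw [h, e, zero_smul, zero_smul, add_zero] at hp
        exact mulVec_ne_zero (D.π x) (stdF_ne_zero k) hp
      · exact ⟨0, by rwa [spT_zero, one_mul]⟩
    obtain ⟨a, g, b, hg', g1, g2, e⟩ := plane_decomp
      (mul_mem (plane_spT (stdF_mem_planeSpace k) z) hg) hz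
    obtain ⟨h, hh, eh⟩ := D.exists_GS hg'
    have hfl : D.flip k (D.zEl k a) ∈ D.GS k :=
      mul_mem (mul_mem (D.wEl_spec k).1 (D.zEl_spec k a).1) (inv_mem (D.wEl_spec k).1)
    have hx' : x = (D.zEl k z)⁻¹ * (D.flip k (D.zEl k a) * h * D.zEl k b) :=
      (D.injGS k).eq hx (mul_mem (inv_mem (D.zEl_spec k z).1)
        (mul_mem (mul_mem hfl hh) (D.zEl_spec k b).1)) (by
        simp only [map_mul, map_inv, D.π_flip_zEl, (D.zEl_spec k _).2, eh, ← e]
        group)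
    rw [hx']
    exact mul_mem (inv_mem (hU (D.zEl_mem_upGrp hF ih z))) (mul_mem (mul_mem
      (hV (D.flip_mem_loGrp hF ih (D.zEl_mem_upGrp hF ih a)))
      (hL (D.isTor_mem_levGrp k ⟨hh, _, hz, by rw [eh]; exact g1, by rw [eh]; exact g2⟩)))
      (hU (D.zEl_mem_upGrp hF ih b)))
  · rcases Nat.eq_or_lt_of_le hi with e | hlt
    swap
    · exact le_trans (D.GM_le_gam hlt hi') ((D.gam_le_levGrp k).trans hL)
    obtain rfl : k = i := Fin.ext e
    intro x hx
    have hk := hi'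
    have hg := D.π_GM hk hx
    obtain ⟨hgF, hgE⟩ := mem_mGrp.1 hg
    obtain ⟨v, hv, z, hs⟩ := stab_decomp (mGrp_le_fixK le_rfl hg) (hgF k)
    have hgf : (D.π x : Mat) *ᵥ stdE k = stdE k + v + z • stdF k := by
      rw [show D.π x = eT (stdF k) v z * ((eT (stdF k) v z)⁻¹ * D.π x) by group, mul_mulVec,
        (fixK_succ.1 hs).2.2, eT_stdF_mulVec_stdE hv]
    have hperp : ∀ y : Vec, (D.π x : Mat) *ᵥ y = y → B (stdE k) y = 0 → B (stdF k) y = 0 →
        B v y = 0 := by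
      intro y hy h1 h2
      have := form_mulVec (D.π x) (stdE k) y
      rw [hy, hgf, form_add_left, form_add_left, form_smul_left, h1, h2, mul_zero, zero_add,
        add_zero] at this
      exact this
    have hvp : v ∈ planeSpace (nx hk) := mem_planeSpace.2 fun j hj => by
      rcases Nat.lt_or_ge j.val (k.val + 1) with h | h
      · exact mem_wSpace.1 hv j h
      · have e1 : j.val ≠ k.val + 1 := fun e => hj (Fin.ext e)
        have e2 : k ≠ j := fun e => by rw [e] at h; omega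
        exact ⟨hperp _ (hgE j (by omega) e1) (form_stdE_stdE _ _)
            (by rw [form_stdF_stdE, if_neg e2]),
          hperp _ (hgF j) (by rw [form_stdE_stdF, if_neg e2]) (form_stdF_stdF _ _)⟩
    have hne : k ≠ nx hk := fun e => by have := congrArg Fin.val e; simp at this
    have hv2 := planeSpace_eq hvp
    rw [hperp (stdF (nx hk)) (hgF _) (by rw [form_stdE_stdF, if_neg hne]) (form_stdF_stdF _ _),
      zero_smul, add_zero] at hv2
    set t := B (stdE (nx hk)) v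
    have hup : eT (stdF k) v z ∈ mGrp k := by rw [hv2]; exact eT_mem_mGrp hk (Or.inr ⟨t, rfl⟩) z
    have hs' : (eT (stdF k) v z)⁻¹ * D.π x ∈ mGrp k := mul_mem (inv_mem hup) hg
    have hsp : (eT (stdF k) v z)⁻¹ * D.π x ∈ plane (nx hk) := mem_plane.2 fun j hj => by
      rcases Nat.lt_or_ge j.val (k.val + 1) with h | h
      · exact mem_fixK.1 hs j h
      · exact ⟨(mem_mGrp.1 hs').1 j, (mem_mGrp.1 hs').2 j (by omega) fun e => hj (Fin.ext e)⟩
    obtain ⟨r, hr, er⟩ := D.exists_GS hsp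
    have hu : D.xi k v * D.zEl k z ∈ D.GM k :=
      mul_mem (by rw [hv2]; exact D.xi_mem_GM hF ih hk t) (D.zEl_mem_GM hk z)
    have hx' : x = D.xi k v * D.zEl k z * r :=
      (D.inj_MS k (nx hk) hk).eq (Subgroup.mem_sup_left hx)
        (mul_mem (Subgroup.mem_sup_left hu) (Subgroup.mem_sup_right hr))
        (by rw [map_mul, D.π_upper hF ih hv, er, ← mul_assoc, mul_inv_cancel, one_mul])
    rw [hx']
    exact mul_mem (hU ⟨v, hv, z, rfl⟩)
      (hL (D.gam_le_levGrp k (D.GS_le_gam (j := nx hk) le_rfl hr)))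

include hF ih in
/-- The descending step. -/
theorem inj_step : Inj D.π (D.gam k.val) := by
  intro γ hγ h1
  have hle : D.upGrp hF ih ⊔ D.loGrp hF ih ⊔ D.levGrp k ≤ D.gam k.val :=
    sup_le (sup_le (D.upGrp_le hF ih) (D.loGrp_le hF ih)) D.levGrp_le
  have hin : ∀ x ∈ D.upGrp hF ih ⊔ D.loGrp hF ih ⊔ D.levGrp k, corner k (D.π x) ≠ 0 →
      D.π x ∈ D.π '' D.bigCell hF ih :=
    fun x hx hc => D.mem_image_cell hF ih (D.π_gam (hle hx)) hc
  refine injective_of_cell D.π (D.upGrp hF ih) (D.loGrp hF ih) (D.levGrp k)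
    (D.conj_lev_upper hF ih) (D.conj_lev_lower hF ih) (D.cell_unique hF ih) ?_ ?_ γ
    (D.gam_le_sup hF ih hγ) h1
  · rintro u hu y hy ⟨c, hc, e⟩
    exact D.upper_cell hF ih hu hy (by rw [← e]; exact D.corner_of_cell hF ih hc)
  · intro γ hγ y hy
    by_cases hk : k.val + 1 < m
    swap
    · -- a single pair
      right; right
      intro x hx hx1
      refine D.injGS k x ((D.gam_le (A := D.GS k) (fun j hj => ?_)
        (fun i hi hi' => absurd hi' (by omega))) (hle hx)) hx1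
      obtain rfl : k = j := Fin.ext (by omega)
      exact le_rfl
    have hyA := inv_mem (Subgroup.mem_sup_left (T := D.levGrp k)
      (Subgroup.mem_sup_right (S := D.upGrp hF ih) hy))
    have hW : stdF (F := F) k ∈ wSpace k.val := stdF_mem_wSpace le_rfl
    have mk : ∀ γ ∈ D.upGrp hF ih ⊔ D.loGrp hF ih ⊔ D.levGrp k,
        ∀ y ∈ D.loGrp hF ih, ∀ v ∈ wSpace (F := F) (k.val + 1), ∀ z : F,
        B (stdE k) ((D.π γ : Mat) *ᵥ stdF k) + B ((D.π γ : Mat) *ᵥ stdF k) v +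
            z * B ((D.π γ : Mat) *ᵥ stdF k) (stdF k) ≠ 0 →
        B (stdE k) ((D.π y⁻¹ : Mat) *ᵥ stdF k) + B ((D.π y⁻¹ : Mat) *ᵥ stdF k) v +
            z * B ((D.π y⁻¹ : Mat) *ᵥ stdF k) (stdF k) ≠ 0 →
        ∃ u ∈ D.upGrp hF ih, D.π (u * γ) ∈ D.π '' cell (D.loGrp hF ih) (D.levGrp k) (D.upGrp hF ih) ∧
          D.π (u * y⁻¹) ∈ D.π '' cell (D.loGrp hF ih) (D.levGrp k) (D.upGrp hF ih) := by
      intro γ hγ y hy v hv z c1 c2
      have hu : D.xi k v * D.zEl k z ∈ D.upGrp hF ih := ⟨v, hv, z, rfl⟩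
      have huA := Subgroup.mem_sup_left (T := D.levGrp k)
        (Subgroup.mem_sup_left (T := D.loGrp hF ih) hu)
      have hyA := inv_mem (Subgroup.mem_sup_left (T := D.levGrp k)
        (Subgroup.mem_sup_right (S := D.upGrp hF ih) hy))
      refine ⟨_, hu, hin _ (mul_mem huA hγ) ?_, hin _ (mul_mem huA hyA) ?_⟩
      · rw [corner, map_mul, mul_mulVec, D.π_upper hF ih hv, corner_eT hv]; exact c1
      · rw [corner, map_mul, mul_mulVec, D.π_upper hF ih hv, corner_eT hv]; exact c2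
    have hp := mulVec_mem_wSpace (D.π_gam (hle hγ)) hW
    have hp0 := mulVec_ne_zero (D.π γ) (stdF_ne_zero k)
    by_cases hF2 : ∃ a : F, a ≠ 0 ∧ a ≠ 1
    · obtain ⟨v, hv, z, c1, c2⟩ := exists_good hF2 hp
        (mulVec_mem_wSpace (D.π_gam (hle hyA)) hW) hp0 (mulVec_ne_zero _ (stdF_ne_zero k))
      exact Or.inl (mk γ hγ y hy v hv z c1 c2)
    have hF01 : ∀ a : F, a = 0 ∨ a = 1 := fun a => by
      by_contra h; push Not at h; exact hF2 ⟨a, h⟩
    by_cases hgd : ∃ v ∈ wSpace (F := F) (k.val + 1), ∃ z : F,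
        B (stdE k) ((D.π γ : Mat) *ᵥ stdF k) + B ((D.π γ : Mat) *ᵥ stdF k) v +
            z * B ((D.π γ : Mat) *ᵥ stdF k) (stdF k) ≠ 0 ∧
        B (stdE k) ((D.π y⁻¹ : Mat) *ᵥ stdF k) + B ((D.π y⁻¹ : Mat) *ᵥ stdF k) v +
            z * B ((D.π y⁻¹ : Mat) *ᵥ stdF k) (stdF k) ≠ 0
    · obtain ⟨v, hv, z, c1, c2⟩ := hgd
      exact Or.inl (mk γ hγ y hy v hv z c1 c2)
    -- over two elements, split the lower element in two
    right; left
    push Not at hgd
    set p := (D.π γ : Mat) *ᵥ stdF k with hpdef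
    set q := (D.π y⁻¹ : Mat) *ᵥ stdF k with hqdef
    have hlo1 : ∀ x ∈ D.loGrp hF ih, B (stdE k) ((D.π x : Mat) *ᵥ stdF k) = 1 := by
      intro x hx
      obtain ⟨v, hv, z, rfl⟩ := (D.mem_loGrp hF ih).1 hx
      rw [D.π_flip_eT k hv (D.π_upper hF ih hv z), eT_stdE_mulVec_stdF hv]
      simp [form_sub_right, form_smul_right, form_stdE_stdF, form_self, (form_zero_of_wSpace hv).2]
    obtain ⟨c0, hsum⟩ := sum_eq_of_not_good hF01 hp hp0 (hlo1 _ (inv_mem hy)) hgd
    set v2 := stdF (F := F) (nx hk) with hv2def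
    have hv2 : v2 ∈ wSpace (k.val + 1) := stdF_mem_wSpace le_rfl
    set t' := 1 + B q (stdF k) with ht'
    set x := D.flip k (D.xi k v2 * D.zEl k t') with hxdef
    have hx : x ∈ D.loGrp hF ih := D.flip_mem_loGrp hF ih ⟨v2, hv2, t', rfl⟩
    have hπx : D.π x = eT (stdE k) v2 t' := D.π_flip_eT k hv2 (D.π_upper hF ih hv2 t')
    have hπxi : D.π x⁻¹ = eT (stdE k) (-v2) (-t') := by
      rw [map_inv, hπx, eT_inv (form_zero_of_wSpace hv2).2]
    have hxA : x⁻¹ ∈ D.upGrp hF ih ⊔ D.loGrp hF ih ⊔ D.levGrp k :=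
      Subgroup.mem_sup_left (Subgroup.mem_sup_right (inv_mem hx))
    refine ⟨y * x, mul_mem hy hx, x⁻¹, inv_mem hx, by group, ?_, ?_⟩
    · -- the second factor
      by_contra hbad
      have hq2 := hlo1 x hx
      obtain ⟨-, hsum2⟩ := sum_eq_of_not_good hF01 hp hp0 hq2
        (fun v hv z c1 => by
          by_contra c2
          exact hbad (mk γ hγ x⁻¹ (inv_mem hx) v hv z c1 (by rwa [inv_inv])))
      have a := hsum 0 (Submodule.zero_mem _) 1
      have b := hsum2 0 (Submodule.zero_mem _) 1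
      rw [hπx, eT_stdE_mulVec_stdF hv2] at b
      simp only [form_zero_right, form_sub_left, form_smul_left, form_self,
        form_eq_zero_comm.1 (form_zero_of_wSpace hv2).1, form_stdE_stdF, if_true] at a b
      have two : (1 : F) + 1 = 0 := (hF01 _).resolve_right fun h => one_ne_zero (add_eq_right.1 h)
      refine one_ne_zero (α := F) ?_
      rw [ht'] at b
      linear_combination a - b - (B q (stdF k)) * two
    · -- the first factor
      by_contra hbad
      set p' := (D.π (x⁻¹ * γ) : Mat) *ᵥ stdF k with hp'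
      set q1 := (D.π (y * x)⁻¹ : Mat) *ᵥ stdF k with hq1
      have hA' := mul_mem hxA hγ
      obtain ⟨-, hsum1⟩ := sum_eq_of_not_good hF01 (mulVec_mem_wSpace (D.π_gam (hle hA')) hW)
        (mulVec_ne_zero (D.π (x⁻¹ * γ)) (stdF_ne_zero k)) (hlo1 _ (inv_mem (mul_mem hy hx)))
        (fun v hv z c1 => by
          by_contra c2
          exact hbad (mk _ hA' (y * x) (mul_mem hy hx) v hv z c1 c2))
      obtain ⟨v, hv, hvne⟩ := nondegOn_stdComplement _ v2 hv2 (stdF_ne_zero _)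
      have a := hsum v hv 0
      have b := hsum1 v hv 0
      have hn := Submodule.neg_mem _ hv2
      have bp : B p' v = B p v := by
        rw [hp', map_mul, mul_mulVec, hπxi, ← hpdef, eT_mulVec (form_zero_of_wSpace hn).2]
        simp only [form_add_left, form_smul_left, (form_zero_of_wSpace hv).2]
        rw [form_swap p (stdE k), c0]; ring
      have bq : B q1 v = B q v + B v2 v := by
        rw [hq1, _root_.mul_inv_rev, map_mul, mul_mulVec, hπxi, ← hqdef,
          eT_mulVec (form_zero_of_wSpace hn).2]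
        simp only [form_add_left, form_smul_left, form_neg_left, (form_zero_of_wSpace hv).2]
        rw [form_swap q (stdE k), hlo1 _ (inv_mem hy)]; ring
      rw [zero_mul, zero_mul, add_zero, add_zero, bp, bq] at b
      rw [zero_mul, zero_mul, add_zero, add_zero] at a
      exact hvne (by linear_combination b - a)

omit k in
/-- The projection is injective on every generated subgroup. -/
theorem inj_gam (hF : D.AddBase) : ∀ (d l : ℕ), m ≤ l + d → Inj D.π (D.gam l) := by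
  intro d
  induction d with
  | zero =>
    intro l hl
    have : D.gam l ≤ ⊥ := D.gam_le (fun j hj => absurd j.isLt (by omega))
      (fun i hi _ => absurd i.isLt (by omega))
    exact fun x hx _ => Subgroup.mem_bot.1 (this hx)
  | succ d ih =>
    intro l hl
    by_cases hlm : m ≤ l
    · exact ih l (by omega)
    · exact D.inj_step (k := ⟨l, by omega⟩) hF (ih (l + 1) (by omega))

end Lifts

end CfsgLib.SympAmalgam
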