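import Cfsg.Agent.SympAmalgam.Maps
import Mathlib.GroupTheory.Subgroup.Centralizer

/-!
Compatible lifts of the generating subgroups of the symplectic amalgam, and surjectivity.
-/

set_option autoImplicit false

namespace CfsgLib.SympAmalgam

open Matrix CfsgLib.Classical.Symp

variable {m : ℕ} {F : Type*} [Field F] {Γ : Type*} [Group Γ]

local notation "B" => Cfsg.sympForm m F
local notation "Mat" => Matrix (Fin m ⊕ Fin m) (Fin m ⊕ Fin m) F
local notation "Sp" => Matrix.symplecticGroup (Fin m) F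
local notation "Vec" => Fin m ⊕ Fin m → F

/-- A homomorphism has trivial kernel on a subgroup. -/
def Inj {S : Type*} [Group S] (π : Γ →* S) (A : Subgroup Γ) : Prop := ∀ x ∈ A, π x = 1 → x = 1

theorem Inj.eq {S : Type*} [Group S] {π : Γ →* S} {A : Subgroup Γ} (h : Inj π A) {x y : Γ}
    (hx : x ∈ A) (hy : y ∈ A) (e : π x = π y) : x = y := by
  have := h (x * y⁻¹) (mul_mem hx (inv_mem hy)) (by rw [map_mul, map_inv, e, mul_inv_cancel])
  rwa [mul_inv_eq_one] at this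

theorem Inj.comm {S : Type*} [Group S] {π : Γ →* S} {A : Subgroup Γ} (h : Inj π A) {x y : Γ}
    (hx : x ∈ A) (hy : y ∈ A) (e : π x * π y = π y * π x) : x * y = y * x :=
  h.eq (mul_mem hx hy) (mul_mem hy hx) (by rw [map_mul, map_mul, e])

theorem Inj.mono {S : Type*} [Group S] {π : Γ →* S} {A A' : Subgroup Γ} (h : Inj π A') (hle : A ≤ A') :
    Inj π A := fun x hx => h x (hle hx)

/-- Subgroups above the generators such that the projection is injective on any two of them. -/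
structure Lifts (m : ℕ) (F : Type*) [Field F] (Γ : Type*) [Group Γ] where
  π : Γ →* Matrix.symplecticGroup (Fin m) F
  GS : Fin m → Subgroup Γ
  GM : Fin m → Subgroup Γ
  map_GS : ∀ j, (GS j).map π = plane j
  map_GM : ∀ i : Fin m, i.val + 1 < m → (GM i).map π = mGrp i
  inj_SS : ∀ j l, Inj π (GS j ⊔ GS l)
  inj_MM : ∀ i i' : Fin m, i.val + 1 < m → i'.val + 1 < m → Inj π (GM i ⊔ GM i')
  inj_MS : ∀ i j : Fin m, i.val + 1 < m → Inj π (GM i ⊔ GS j)

variable (D : Lifts m F Γ)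

namespace Lifts

/-- The generators of index at least `k`. -/
def gam (k : ℕ) : Subgroup Γ :=
  (⨆ (j : Fin m) (_ : k ≤ j.val), D.GS j) ⊔
    ⨆ (i : Fin m) (_ : k ≤ i.val) (_ : i.val + 1 < m), D.GM i

theorem GS_le_gam {k : ℕ} {j : Fin m} (h : k ≤ j.val) : D.GS j ≤ D.gam k :=
  le_trans (le_iSup₂ (f := fun (j : Fin m) (_ : k ≤ j.val) => D.GS j) j h) le_sup_left

theorem GM_le_gam {k : ℕ} {i : Fin m} (h : k ≤ i.val) (h' : i.val + 1 < m) : D.GM i ≤ D.gam k := by
  refine le_trans ?_ le_sup_right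
  exact le_iSup_of_le i (le_iSup_of_le h (le_iSup_of_le h' le_rfl))

theorem gam_le {k : ℕ} {A : Subgroup Γ} (h1 : ∀ j : Fin m, k ≤ j.val → D.GS j ≤ A)
    (h2 : ∀ i : Fin m, k ≤ i.val → i.val + 1 < m → D.GM i ≤ A) : D.gam k ≤ A :=
  sup_le (iSup₂_le h1) (iSup_le fun i => iSup_le fun a => iSup_le fun b => h2 i a b)

theorem gam_anti {k l : ℕ} (h : k ≤ l) : D.gam l ≤ D.gam k :=
  D.gam_le (fun _ hj => D.GS_le_gam (h.trans hj)) fun _ hi hi' => D.GM_le_gam (h.trans hi) hi'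

theorem π_GS {j : Fin m} {x : Γ} (hx : x ∈ D.GS j) : D.π x ∈ plane j :=
  D.map_GS j ▸ Subgroup.mem_map_of_mem _ hx

theorem π_GM {i : Fin m} (h : i.val + 1 < m) {x : Γ} (hx : x ∈ D.GM i) : D.π x ∈ mGrp i :=
  D.map_GM i h ▸ Subgroup.mem_map_of_mem _ hx

theorem exists_GS {j : Fin m} {g : Sp} (hg : g ∈ plane j) : ∃ x ∈ D.GS j, D.π x = g := by
  rw [← D.map_GS j] at hg
  exact Subgroup.mem_map.1 hg

theorem exists_GM {i : Fin m} (h : i.val + 1 < m) {g : Sp} (hg : g ∈ mGrp i) :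
    ∃ x ∈ D.GM i, D.π x = g := by
  rw [← D.map_GM i h] at hg
  exact Subgroup.mem_map.1 hg

theorem π_gam {k : ℕ} {x : Γ} (hx : x ∈ D.gam k) : D.π x ∈ fixK k :=
  D.gam_le (A := (fixK k).comap D.π) (fun _ hj _ hy => plane_le_fixK hj (D.π_GS hy))
    (fun _ hi hi' _ hy => mGrp_le_fixK hi (D.π_GM hi' hy)) hx

theorem eT_mem_mGrp {k : Fin m} (hk : k.val + 1 < m) {v : Vec}
    (hv : v = stdF ⟨k.val + 1, hk⟩ ∨ ∃ t : F, v = t • stdF ⟨k.val + 1, hk⟩) (z : F) :
    eT (stdF k) v z ∈ mGrp k := by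
  obtain ⟨t, rfl⟩ : ∃ t : F, v = t • stdF ⟨k.val + 1, hk⟩ :=
    hv.elim (fun e => ⟨1, by rw [e, one_smul]⟩) id
  have h0 : B (stdF k) (t • stdF ⟨k.val + 1, hk⟩) = 0 := by
    rw [form_smul_right, form_stdF_stdF, mul_zero]
  refine mem_mGrp.2 ⟨fun j => eT_fix h0 z (form_stdF_stdF j k)
    (by rw [form_smul_right, form_stdF_stdF, mul_zero]), fun j a b => ?_⟩
  have e1 : j ≠ k := fun e => a (by rw [e])
  have e2 : j ≠ ⟨k.val + 1, hk⟩ := fun e => b (by rw [e])
  exact eT_fix h0 z (by rw [form_stdE_stdF, if_neg e1])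
    (by rw [form_smul_right, form_stdE_stdF, if_neg e2, mul_zero])

/-- The generators of index at least `k` map onto the fixer of the first `k` pairs. -/
theorem map_gam : ∀ (d k : ℕ), m ≤ k + d →
    fixK (m := m) (F := F) k ≤ (D.gam k).map D.π := by
  intro d
  induction d with
  | zero => exact fun k hk g hg => (fixK_top (by omega) hg) ▸ one_mem _
  | succ d ih =>
    intro k hk
    by_cases hkm : m ≤ k
    · exact fun g hg => (fixK_top hkm hg) ▸ one_mem _
    refine fixK_le (k := ⟨k, by omega⟩) _ ?_ ?_ fun hk1 => ?_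
    · rw [← D.map_GS]
      exact Subgroup.map_mono (D.GS_le_gam le_rfl)
    · exact le_trans (ih (k + 1) (by omega)) (Subgroup.map_mono (D.gam_anti (by simp)))
    · obtain ⟨x, hx, e⟩ := D.exists_GM (i := ⟨k, by omega⟩) hk1 (eT_mem_mGrp hk1 (Or.inl rfl) 0)
      exact ⟨x, D.GM_le_gam le_rfl hk1 hx, e⟩

theorem exists_gam {k : ℕ} {g : Sp} (hg : g ∈ fixK k) :
    ∃ x ∈ D.gam k, D.π x = g :=
  Subgroup.mem_map.1 (D.map_gam m k (by omega) hg)

/-- An element of a generator commutes with all higher generators. -/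
theorem comm_gam {l : ℕ} {x : Γ}
    (hS : ∀ j : Fin m, l ≤ j.val → Inj D.π (Subgroup.zpowers x ⊔ D.GS j))
    (hM : ∀ i : Fin m, l ≤ i.val → i.val + 1 < m → Inj D.π (Subgroup.zpowers x ⊔ D.GM i))
    (hc : ∀ h ∈ fixK (m := m) (F := F) l, D.π x * h = h * D.π x) {s : Γ} (hs : s ∈ D.gam l) :
    x * s = s * x := by
  refine (D.gam_le (A := Subgroup.centralizer {x}) (fun j hj y hy => ?_) (fun i hi hi' y hy => ?_) hs :
    s ∈ Subgroup.centralizer {x}) x rfl |>.symm |> fun e => e.symm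
  · rw [Subgroup.mem_centralizer_singleton_iff]
    exact ((hS j hj).comm (Subgroup.mem_sup_left (Subgroup.mem_zpowers x)) (Subgroup.mem_sup_right hy)
      (hc _ (plane_le_fixK hj (D.π_GS hy)))).symm
  · rw [Subgroup.mem_centralizer_singleton_iff]
    exact ((hM i hi hi').comm (Subgroup.mem_sup_left (Subgroup.mem_zpowers x)) (Subgroup.mem_sup_right hy)
      (hc _ (mGrp_le_fixK hi (D.π_GM hi' hy)))).symm

theorem comm_GS_gam {l : ℕ} {j : Fin m} {x : Γ} (hx : x ∈ D.GS j)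
    (hc : ∀ h ∈ fixK (m := m) (F := F) l, D.π x * h = h * D.π x) {s : Γ} (hs : s ∈ D.gam l) :
    x * s = s * x :=
  D.comm_gam (fun j' _ => (D.inj_SS j j').mono (sup_le_sup_right (Subgroup.zpowers_le.2 hx) _))
    (fun i _ hi => (D.inj_MS i j hi).mono (sup_le (le_trans (Subgroup.zpowers_le.2 hx) le_sup_right)
      le_sup_left)) hc hs

theorem comm_GM_gam {l : ℕ} {i : Fin m} (hi : i.val + 1 < m) {x : Γ} (hx : x ∈ D.GM i)
    (hc : ∀ h ∈ fixK (m := m) (F := F) l, D.π x * h = h * D.π x) {s : Γ} (hs : s ∈ D.gam l) :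
    x * s = s * x :=
  D.comm_gam (fun j' _ => (D.inj_MS i j' hi).mono (sup_le_sup_right (Subgroup.zpowers_le.2 hx) _))
    (fun i' _ hi' => (D.inj_MM i i' hi hi').mono (sup_le_sup_right (Subgroup.zpowers_le.2 hx) _)) hc hs

end Lifts

end CfsgLib.SympAmalgam
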