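import Cfsg.Agent.Classical.Symp.Transvection

/-!
Matrix facts on root elements, pair fixers and cell decompositions in the symplectic group.
-/

set_option autoImplicit false

namespace CfsgLib.SympAmalgam

open Matrix CfsgLib.Classical.Symp

variable {m : ℕ} {F : Type*} [Field F]

local notation "B" => Cfsg.sympForm m F
local notation "Mat" => Matrix (Fin m ⊕ Fin m) (Fin m ⊕ Fin m) F
local notation "Sp" => Matrix.symplecticGroup (Fin m) F
local notation "Vec" => Fin m ⊕ Fin m → F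

/-- The root element `x ↦ x + B(x,v) e + B(x,e) v + z B(x,e) e`. -/
def eT (e v : Vec) (z : F) : Sp := spT (e + v) 1 * spT e (-1) * spT v (-1) * spT e z

theorem eT_mulVec {e v : Vec} (h : B e v = 0) (z : F) (x : Vec) :
    (eT e v z : Mat) *ᵥ x = x + B x v • e + B x e • v + (z * B x e) • e := by
  simp only [eT, mul_mulVec, spT_mulVec, form_add_left, form_smul_left, form_add_right, form_self, h,
    form_eq_zero_comm.mp h]
  module

theorem conj_eT (g : Sp) (e v : Vec) (z : F) :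
    g * eT e v z * g⁻¹ = eT ((g : Mat) *ᵥ e) ((g : Mat) *ᵥ v) z := by
  have : g * eT e v z * g⁻¹ = (g * spT (e + v) 1 * g⁻¹) * (g * spT e (-1) * g⁻¹) *
      (g * spT v (-1) * g⁻¹) * (g * spT e z * g⁻¹) := by
    simp only [eT]; group
  rw [this, conj_spT, conj_spT, conj_spT, conj_spT, mulVec_add, eT]

theorem eT_zero (e : Vec) (z : F) : eT e 0 z = spT e z := by
  rw [eT, add_zero, spT_zero_left, mul_one, ← spT_add, add_neg_cancel, spT_zero, one_mul]

theorem eT_zero_zero (e : Vec) : eT e 0 (0 : F) = 1 := by rw [eT_zero, spT_zero]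

theorem eT_mul {e v v' : Vec} (h : B e v = 0) (h' : B e v' = 0) (z z' : F) :
    eT e v z * eT e v' z' = eT e (v + v') (z + z' + B v' v) :=
  symp_ext fun x => by
    have h'' : B e (v + v') = 0 := by rw [form_add_right, h, h', add_zero]
    rw [mul_mulVec, eT_mulVec h', eT_mulVec h, eT_mulVec h'']
    simp only [form_add_left, form_smul_left, form_add_right, form_self, h,
      form_eq_zero_comm.mp h']
    module

theorem eT_mul_spT {e v : Vec} (h : B e v = 0) (z w : F) :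
    eT e v z * spT e w = eT e v (z + w) := by
  rw [← eT_zero, eT_mul h (form_zero_right e), add_zero, form_zero_left, add_zero]

theorem eT_inv {e v : Vec} (h : B e v = 0) (z : F) : (eT e v z)⁻¹ = eT e (-v) (-z) := by
  refine inv_eq_of_mul_eq_one_right ?_
  rw [eT_mul h (by rw [form_neg_right, h, neg_zero]), add_neg_cancel, form_neg_left, form_self,
    neg_zero, add_zero, add_neg_cancel, eT_zero_zero]

theorem spT_add_vec {e v : Vec} (h : B e v = 0) (z : F) :
    spT (e + v) z = eT e (z • v) z * spT v z :=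
  symp_ext fun x => by
    have h' : B e (z • v) = 0 := by rw [form_smul_right, h, mul_zero]
    rw [mul_mulVec, spT_mulVec, spT_mulVec, eT_mulVec h']
    simp only [form_add_right, form_smul_right, form_add_left, form_smul_left, form_self,
      form_eq_zero_comm.mp h]
    module

theorem eT_smul_left {e v : Vec} (h : B e v = 0) (a z : F) :
    eT (a • e) v z = eT e (a • v) (a * a * z) :=
  symp_ext fun x => by
    rw [eT_mulVec (by rw [form_smul_left, h, mul_zero]),
      eT_mulVec (by rw [form_smul_right, h, mul_zero])]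
    simp only [form_smul_right]
    module

theorem eT_fix {e v x : Vec} (h : B e v = 0) (z : F) (h1 : B x e = 0) (h2 : B x v = 0) :
    (eT e v z : Mat) *ᵥ x = x := by
  rw [eT_mulVec h, h1, h2]; simp

/-- Elements fixing a set of vectors. -/
def fixSet (X : Set Vec) : Subgroup Sp where
  carrier := {g | ∀ x ∈ X, (g : Mat) *ᵥ x = x}
  one_mem' := fun x _ => by simp
  mul_mem' := fun ha hb x hx => by rw [mul_mulVec, hb x hx, ha x hx]
  inv_mem' := fun {a} ha x hx => by conv_lhs => rw [← ha x hx]; rw [inv_mulVec_cancel]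

theorem inv_mulVec_eq {g : Sp} {x y : Vec} (h : (g : Mat) *ᵥ x = y) :
    ((g⁻¹ : Sp) : Mat) *ᵥ y = x := by rw [← h, inv_mulVec_cancel]

theorem mem_fixSet {X : Set Vec} {g : Sp} : g ∈ fixSet X ↔ ∀ x ∈ X, (g : Mat) *ᵥ x = x := Iff.rfl

/-- Fixer of the first `k` pairs. -/
def fixK (k : ℕ) : Subgroup Sp := fixSet {x | ∃ j : Fin m, j.val < k ∧ (x = stdF j ∨ x = stdE j)}

/-- Fixer of all pairs but the `k`-th. -/
def plane (k : Fin m) : Subgroup Sp := fixSet {x | ∃ j : Fin m, j ≠ k ∧ (x = stdF j ∨ x = stdE j)}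

/-- The subgroups `M_i`. -/
def mGrp (i : Fin m) : Subgroup Sp :=
  fixSet {x | (∃ j, x = stdF j) ∨ ∃ j : Fin m, j.val ≠ i.val ∧ j.val ≠ i.val + 1 ∧ x = stdE j}

theorem mem_fixK {k : ℕ} {g : Sp} : g ∈ fixK k ↔
    ∀ j : Fin m, j.val < k → (g : Mat) *ᵥ stdF j = stdF j ∧ (g : Mat) *ᵥ stdE j = stdE j := by
  refine ⟨fun h j hj => ⟨h _ ⟨j, hj, Or.inl rfl⟩, h _ ⟨j, hj, Or.inr rfl⟩⟩, ?_⟩
  rintro h x ⟨j, hj, rfl | rfl⟩
  exacts [(h j hj).1, (h j hj).2]

theorem mem_plane {k : Fin m} {g : Sp} : g ∈ plane k ↔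
    ∀ j : Fin m, j ≠ k → (g : Mat) *ᵥ stdF j = stdF j ∧ (g : Mat) *ᵥ stdE j = stdE j := by
  refine ⟨fun h j hj => ⟨h _ ⟨j, hj, Or.inl rfl⟩, h _ ⟨j, hj, Or.inr rfl⟩⟩, ?_⟩
  rintro h x ⟨j, hj, rfl | rfl⟩
  exacts [(h j hj).1, (h j hj).2]

theorem mem_mGrp {i : Fin m} {g : Sp} : g ∈ mGrp i ↔ (∀ j, (g : Mat) *ᵥ stdF j = stdF j) ∧
    ∀ j : Fin m, j.val ≠ i.val → j.val ≠ i.val + 1 → (g : Mat) *ᵥ stdE j = stdE j := by
  refine ⟨fun h => ⟨fun j => h _ (Or.inl ⟨j, rfl⟩), fun j a b => h _ (Or.inr ⟨j, a, b, rfl⟩)⟩, ?_⟩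
  rintro ⟨h1, h2⟩ x (⟨j, rfl⟩ | ⟨j, a, b, rfl⟩)
  exacts [h1 j, h2 j a b]

theorem fixK_succ {k : Fin m} {g : Sp} : g ∈ fixK (k.val + 1) ↔
    g ∈ fixK k.val ∧ (g : Mat) *ᵥ stdF k = stdF k ∧ (g : Mat) *ᵥ stdE k = stdE k := by
  simp only [mem_fixK]
  constructor
  · exact fun h => ⟨fun j hj => h j (by omega), h k (by omega)⟩
  · rintro ⟨h1, h2⟩ j hj
    rcases Nat.lt_or_ge j.val k.val with h | h
    · exact h1 j h
    · obtain rfl : j = k := Fin.ext (by omega)
      exact h2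

theorem fixK_anti {k l : ℕ} (h : k ≤ l) : fixK (m := m) (F := F) l ≤ fixK k :=
  fun _ hg => mem_fixK.2 fun j hj => mem_fixK.1 hg j (by omega)

theorem fixK_top {g : Sp} {k : ℕ} (hk : m ≤ k) (hg : g ∈ fixK k) : g = 1 :=
  symp_ext_std (fun i => by simp [(mem_fixK.1 hg i (by omega)).2])
    (fun i => by simp [(mem_fixK.1 hg i (by omega)).1])

theorem plane_le_fixK {k : Fin m} {l : ℕ} (h : l ≤ k.val) : plane (F := F) k ≤ fixK l :=
  fun _ hg => mem_fixK.2 fun j hj => mem_plane.1 hg j (fun e => by subst e; omega)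

theorem mGrp_le_fixK {i : Fin m} {l : ℕ} (h : l ≤ i.val) : mGrp (F := F) i ≤ fixK l :=
  fun _ hg => mem_fixK.2 fun j hj =>
    ⟨(mem_mGrp.1 hg).1 j, (mem_mGrp.1 hg).2 j (by omega) (by omega)⟩

/-- Vectors supported on the pairs of index at least `k`. -/
def wSpace (k : ℕ) : Submodule F Vec := stdComplement (Finset.univ.filter fun j : Fin m => j.val < k)

theorem mem_wSpace {k : ℕ} {x : Vec} : x ∈ wSpace k ↔
    ∀ j : Fin m, j.val < k → B x (stdE j) = 0 ∧ B x (stdF j) = 0 := by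
  simp [wSpace, mem_stdComplement_iff]

theorem stdF_mem_wSpace {k : ℕ} {j : Fin m} (h : k ≤ j.val) : stdF (F := F) j ∈ wSpace k :=
  mem_wSpace.2 fun i hi => by
    have : j ≠ i := fun e => by subst e; omega
    simp [form_stdF_stdE, form_stdF_stdF, this]

theorem stdE_mem_wSpace {k : ℕ} {j : Fin m} (h : k ≤ j.val) : stdE (F := F) j ∈ wSpace k :=
  mem_wSpace.2 fun i hi => by
    have : j ≠ i := fun e => by subst e; omega
    simp [form_stdE_stdE, form_stdE_stdF, this]

theorem wSpace_anti {k l : ℕ} (h : k ≤ l) : wSpace (m := m) (F := F) l ≤ wSpace k :=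
  fun _ hx => mem_wSpace.2 fun j hj => mem_wSpace.1 hx j (by omega)

theorem mulVec_mem_wSpace {k : ℕ} {g : Sp} (hg : g ∈ fixK k) {x : Vec} (hx : x ∈ wSpace k) :
    (g : Mat) *ᵥ x ∈ wSpace k :=
  mem_wSpace.2 fun j hj => by
    obtain ⟨a, b⟩ := mem_fixK.1 hg j hj
    exact ⟨by rw [← b, form_mulVec]; exact (mem_wSpace.1 hx j hj).1,
      by rw [← a, form_mulVec]; exact (mem_wSpace.1 hx j hj).2⟩

theorem transvectionGroup_le_fixK (k : ℕ) :
    transvectionGroup (wSpace (m := m) (F := F) k) ≤ fixK k :=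
  fun _ hg => mem_fixK.2 fun j hj =>
    ⟨transvectionGroup_fix hg fun _ hv => form_eq_zero_comm.1 (mem_wSpace.1 hv j hj).2,
      transvectionGroup_fix hg fun _ hv => form_eq_zero_comm.1 (mem_wSpace.1 hv j hj).1⟩

theorem exists_fixK_mulVec {k : ℕ} {x y : Vec} (hx : x ∈ wSpace k) (hy : y ∈ wSpace k)
    (hx0 : x ≠ 0) (hy0 : y ≠ 0) : ∃ g : Sp, g ∈ fixK k ∧ (g : Mat) *ᵥ x = y := by
  obtain ⟨g, hg, e⟩ := exists_mulVec_eq (nondegOn_stdComplement _) hx hy hx0 hy0
  exact ⟨g, transvectionGroup_le_fixK k hg, e⟩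

theorem exists_fixK_pair {k : ℕ} {u v u' v' : Vec} (hu : u ∈ wSpace k) (hv : v ∈ wSpace k)
    (hu' : u' ∈ wSpace k) (hv' : v' ∈ wSpace k) (h : B u v = 1) (h' : B u' v' = 1) :
    ∃ g : Sp, g ∈ fixK k ∧ (g : Mat) *ᵥ u = u' ∧ (g : Mat) *ᵥ v = v' := by
  obtain ⟨g, hg, e⟩ := exists_pair_mulVec_eq (nondegOn_stdComplement _) hu hv hu' hv' h h'
  exact ⟨g, transvectionGroup_le_fixK k hg, e⟩

/-- The span of the `k`-th pair. -/
def planeSpace (k : Fin m) : Submodule F Vec := stdComplement (Finset.univ.erase k)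

theorem mem_planeSpace {k : Fin m} {x : Vec} : x ∈ planeSpace k ↔
    ∀ j : Fin m, j ≠ k → B x (stdE j) = 0 ∧ B x (stdF j) = 0 := by
  simp [planeSpace, mem_stdComplement_iff]

theorem stdF_mem_planeSpace (k : Fin m) : stdF (F := F) k ∈ planeSpace k :=
  mem_planeSpace.2 fun i hi => by simp [form_stdF_stdE, form_stdF_stdF, Ne.symm hi]

theorem stdE_mem_planeSpace (k : Fin m) : stdE (F := F) k ∈ planeSpace k :=
  mem_planeSpace.2 fun i hi => by simp [form_stdE_stdE, form_stdE_stdF, Ne.symm hi]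

theorem transvectionGroup_le_plane (k : Fin m) :
    transvectionGroup (planeSpace (F := F) k) ≤ plane k :=
  fun _ hg => mem_plane.2 fun j hj =>
    ⟨transvectionGroup_fix hg fun _ hv => form_eq_zero_comm.1 (mem_planeSpace.1 hv j hj).2,
      transvectionGroup_fix hg fun _ hv => form_eq_zero_comm.1 (mem_planeSpace.1 hv j hj).1⟩

theorem exists_plane_mulVec {k : Fin m} {x y : Vec} (hx : x ∈ planeSpace k) (hy : y ∈ planeSpace k)
    (hx0 : x ≠ 0) (hy0 : y ≠ 0) : ∃ g : Sp, g ∈ plane k ∧ (g : Mat) *ᵥ x = y := by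
  obtain ⟨g, hg, e⟩ := exists_mulVec_eq (nondegOn_stdComplement _) hx hy hx0 hy0
  exact ⟨g, transvectionGroup_le_plane k hg, e⟩

theorem exists_plane_pair {k : Fin m} {a : F} (ha : a ≠ 0) :
    ∃ g : Sp, g ∈ plane k ∧ (g : Mat) *ᵥ stdE k = a⁻¹ • stdE k ∧ (g : Mat) *ᵥ stdF k = a • stdF k := by
  obtain ⟨g, hg, e⟩ := exists_pair_mulVec_eq (nondegOn_stdComplement _) (stdE_mem_planeSpace k)
    (stdF_mem_planeSpace (F := F) k) ((planeSpace k).smul_mem a⁻¹ (stdE_mem_planeSpace k))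
    ((planeSpace k).smul_mem a (stdF_mem_planeSpace (F := F) k))
    (by rw [form_stdE_stdF, if_pos rfl])
    (by rw [form_smul_left, form_smul_right, form_stdE_stdF, if_pos rfl, mul_one, inv_mul_cancel₀ ha])
  exact ⟨g, transvectionGroup_le_plane k hg, e⟩

theorem stdF_ne_zero (k : Fin m) : stdF (F := F) k ≠ 0 := fun e => by
  simpa [stdF] using congrFun e (Sum.inl k)

theorem stdE_ne_zero (k : Fin m) : stdE (F := F) k ≠ 0 := fun e => by
  simpa [stdE] using congrFun e (Sum.inr k)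

theorem vec_sum (x : Vec) : x = ∑ j, (x (Sum.inl j) • stdF j + x (Sum.inr j) • stdE j) := by
  funext i
  cases i with
  | inl i => simp [Finset.sum_apply, stdE, stdF, Pi.single_apply]
  | inr i => simp [Finset.sum_apply, stdE, stdF, Pi.single_apply]

theorem plane_fix {k : Fin m} {g : Sp} (hg : g ∈ plane k) {x : Vec} (h1 : x (Sum.inl k) = 0)
    (h2 : x (Sum.inr k) = 0) : (g : Mat) *ᵥ x = x := by
  conv_lhs => rw [vec_sum x]
  conv_rhs => rw [vec_sum x]
  rw [mulVec_sum]
  refine Finset.sum_congr rfl fun j _ => ?_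
  by_cases hj : j = k
  · subst hj; rw [h1, h2]; simp
  · rw [mulVec_add, mulVec_smul, mulVec_smul, (mem_plane.1 hg j hj).1, (mem_plane.1 hg j hj).2]

theorem plane_fix_wSpace {k : Fin m} {g : Sp} (hg : g ∈ plane k) {x : Vec}
    (hx : x ∈ wSpace (k.val + 1)) : (g : Mat) *ᵥ x = x := by
  obtain ⟨a, b⟩ := mem_wSpace.1 hx k (by omega)
  rw [form_stdE_right, neg_eq_zero] at a
  rw [form_stdF_right] at b
  exact plane_fix hg a b

theorem plane_commute {k : Fin m} {g h : Sp} (hg : g ∈ plane k) (hh : h ∈ fixK (k.val + 1)) :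
    g * h = h * g := by
  have key : ∀ x : Vec, (x = stdF k ∨ x = stdE k) →
      (g : Mat) *ᵥ ((h : Mat) *ᵥ x) = (h : Mat) *ᵥ ((g : Mat) *ᵥ x) := by
    intro x hx
    have hk := mem_fixK.1 hh k (by omega)
    have hgx : (g : Mat) *ᵥ x ∈ planeSpace k := mem_planeSpace.2 fun j hj => by
      obtain ⟨a, b⟩ := mem_plane.1 hg j hj
      rw [← a, ← b, form_mulVec, form_mulVec]
      rcases hx with rfl | rfl
      · exact mem_planeSpace.1 (stdF_mem_planeSpace k) j hj
      · exact mem_planeSpace.1 (stdE_mem_planeSpace k) j hj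
    have hfix : ∀ y ∈ planeSpace (F := F) k, (h : Mat) *ᵥ y = y := by
      intro y hy
      conv_lhs => rw [vec_sum y]
      conv_rhs => rw [vec_sum y]
      rw [mulVec_sum]
      refine Finset.sum_congr rfl fun j _ => ?_
      by_cases hj : j = k
      · subst hj; rw [mulVec_add, mulVec_smul, mulVec_smul, hk.1, hk.2]
      · obtain ⟨a, b⟩ := mem_planeSpace.1 hy j hj
        rw [form_stdE_right, neg_eq_zero] at a
        rw [form_stdF_right] at b
        rw [a, b]; simp
    rw [hfix _ hgx]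
    rcases hx with rfl | rfl
    · rw [hk.1]
    · rw [hk.2]
  have other : ∀ x : Vec, (∀ j : Fin m, j ≠ k → (x = stdF j ∨ x = stdE j) →
      (g : Mat) *ᵥ ((h : Mat) *ᵥ x) = (h : Mat) *ᵥ ((g : Mat) *ᵥ x)) := by
    intro x j hj hx
    have hgx : (g : Mat) *ᵥ x = x := by
      rcases hx with rfl | rfl
      exacts [(mem_plane.1 hg j hj).1, (mem_plane.1 hg j hj).2]
    rw [hgx]
    rcases Nat.lt_or_ge j.val (k.val + 1) with hl | hl
    · have : (h : Mat) *ᵥ x = x := by
        rcases hx with rfl | rfl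
        exacts [(mem_fixK.1 hh j hl).1, (mem_fixK.1 hh j hl).2]
      rw [this, hgx]
    · refine plane_fix_wSpace hg (mulVec_mem_wSpace hh ?_)
      rcases hx with rfl | rfl
      exacts [stdF_mem_wSpace hl, stdE_mem_wSpace hl]
  refine symp_ext_std (fun i => ?_) (fun i => ?_) <;> rw [mul_mulVec, mul_mulVec]
  · by_cases hi : i = k
    · exact key _ (Or.inr (by rw [hi]))
    · exact other _ i hi (Or.inr rfl)
  · by_cases hi : i = k
    · exact key _ (Or.inl (by rw [hi]))
    · exact other _ i hi (Or.inl rfl)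

theorem form_zero_of_wSpace {k : Fin m} {v : Vec} (hv : v ∈ wSpace (k.val + 1)) :
    B (stdF k) v = 0 ∧ B (stdE k) v = 0 := by
  obtain ⟨a, b⟩ := mem_wSpace.1 hv k (by omega)
  exact ⟨form_eq_zero_comm.1 b, form_eq_zero_comm.1 a⟩

theorem eT_mem_fixK {k : Fin m} {e v : Vec} (he : e ∈ wSpace k.val) (hv : v ∈ wSpace k.val)
    (h : B e v = 0) (z : F) : eT e v z ∈ fixK k.val :=
  mem_fixK.2 fun j hj => by
    obtain ⟨a, b⟩ := mem_wSpace.1 he j hj
    obtain ⟨c, d⟩ := mem_wSpace.1 hv j hj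
    exact ⟨eT_fix h z (form_eq_zero_comm.1 b) (form_eq_zero_comm.1 d),
      eT_fix h z (form_eq_zero_comm.1 a) (form_eq_zero_comm.1 c)⟩

theorem eT_stdF_mulVec_stdE {k : Fin m} {v : Vec} (hv : v ∈ wSpace (k.val + 1)) (z : F) :
    (eT (stdF k) v z : Mat) *ᵥ stdE k = stdE k + v + z • stdF k := by
  rw [eT_mulVec (form_zero_of_wSpace hv).1, (form_zero_of_wSpace hv).2, form_stdE_stdF, if_pos rfl]
  simp

theorem eT_stdE_mulVec_stdF {k : Fin m} {v : Vec} (hv : v ∈ wSpace (k.val + 1)) (z : F) :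
    (eT (stdE k) v z : Mat) *ᵥ stdF k = stdF k - v - z • stdE k := by
  rw [eT_mulVec (form_zero_of_wSpace hv).2, (form_zero_of_wSpace hv).1, form_stdF_stdE, if_pos rfl]
  module

/-- The stabiliser of `e_k` in the fixer of the first pairs. -/
theorem stab_decomp {k : Fin m} {g : Sp} (hg : g ∈ fixK k.val)
    (he : (g : Mat) *ᵥ stdF k = stdF k) :
    ∃ v ∈ wSpace (k.val + 1), ∃ z : F, (eT (stdF k) v z)⁻¹ * g ∈ fixK (k.val + 1) := by
  set b' := (g : Mat) *ᵥ stdE k with hb'
  set z := B (stdE k) b'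
  have hbe : B b' (stdF k) = 1 := by rw [← he, hb', form_mulVec, form_stdE_stdF, if_pos rfl]
  have hb'W : b' ∈ wSpace k.val := mulVec_mem_wSpace hg (stdE_mem_wSpace le_rfl)
  have hv : b' - stdE k - z • stdF k ∈ wSpace (k.val + 1) := mem_wSpace.2 fun j hj => by
    rcases Nat.lt_or_ge j.val k.val with h | h
    · have hmem : b' - stdE k - z • stdF k ∈ wSpace k.val := Submodule.sub_mem _
        (Submodule.sub_mem _ hb'W (stdE_mem_wSpace le_rfl))
        (Submodule.smul_mem _ z (stdF_mem_wSpace le_rfl))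
      exact mem_wSpace.1 hmem j h
    · obtain rfl : j = k := Fin.ext (by omega)
      constructor
      · rw [form_sub_left, form_sub_left, form_smul_left, form_stdE_stdE, form_stdF_stdE,
          if_pos rfl, form_swap b']
        ring
      · rw [form_sub_left, form_sub_left, form_smul_left, form_stdE_stdF, form_stdF_stdF,
          if_pos rfl, hbe]
        ring
  refine ⟨_, hv, z, fixK_succ.2 ⟨mul_mem (inv_mem (eT_mem_fixK (stdF_mem_wSpace le_rfl)
    (wSpace_anti (by omega) hv) (form_zero_of_wSpace hv).1 z)) hg, ?_, ?_⟩⟩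
  · rw [mul_mulVec, he]
    exact inv_mulVec_eq (eT_fix (form_zero_of_wSpace hv).1 z (form_self (stdF k))
      (form_zero_of_wSpace hv).1)
  · have e := eT_stdF_mulVec_stdE hv z
    have e2 : stdE k + (b' - stdE k - z • stdF k) + z • stdF k = b' := by abel
    rw [e2] at e
    rw [mul_mulVec, ← hb']
    exact inv_mulVec_eq e

/-- The cell decomposition. -/
theorem cell_decomp {k : Fin m} {g : Sp} (hg : g ∈ fixK k.val)
    (hc : B (stdE k) ((g : Mat) *ᵥ stdF k) ≠ 0) :
    ∃ v ∈ wSpace (k.val + 1), ∃ (z : F) (t : Sp), t ∈ plane k ∧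
      (t : Mat) *ᵥ stdF k = B (stdE k) ((g : Mat) *ᵥ stdF k) • stdF k ∧
      (t : Mat) *ᵥ stdE k = (B (stdE k) ((g : Mat) *ᵥ stdF k))⁻¹ • stdE k ∧
      ∃ v' ∈ wSpace (k.val + 1), ∃ (z' : F) (s : Sp), s ∈ fixK (k.val + 1) ∧
        g = eT (stdE k) v z * t * (eT (stdF k) v' z' * s) := by
  set a := (g : Mat) *ᵥ stdF k with ha
  set c := B (stdE k) a with hcdef
  obtain ⟨t, ht, t1, t2⟩ := exists_plane_pair (k := k) hc
  set r := stdF k - c⁻¹ • a with hr
  set z := B r (stdF k) with hz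
  have haW : a ∈ wSpace k.val := mulVec_mem_wSpace hg (stdF_mem_wSpace le_rfl)
  have hv : r - z • stdE k ∈ wSpace (k.val + 1) := mem_wSpace.2 fun j hj => by
    rcases Nat.lt_or_ge j.val k.val with h | h
    · have hmem : r - z • stdE k ∈ wSpace k.val := Submodule.sub_mem _
        (Submodule.sub_mem _ (stdF_mem_wSpace le_rfl) (Submodule.smul_mem _ c⁻¹ haW))
        (Submodule.smul_mem _ z (stdE_mem_wSpace le_rfl))
      exact mem_wSpace.1 hmem j h
    · obtain rfl : j = k := Fin.ext (by omega)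
      constructor
      · rw [form_sub_left, form_smul_left, form_stdE_stdE, mul_zero, sub_zero, hr, form_sub_left,
          form_smul_left, form_stdF_stdE, if_pos rfl, form_swap a, ← hcdef]
        field_simp
        ring
      · rw [form_sub_left, form_smul_left, form_stdE_stdF, if_pos rfl, mul_one, ← hz, sub_self]
  set y := eT (stdE k) (r - z • stdE k) z with hy
  have hye : (y : Mat) *ᵥ stdF k = c⁻¹ • a := by
    rw [hy, eT_stdE_mulVec_stdF hv, hr]; abel
  have hym : y ∈ fixK k.val := eT_mem_fixK (stdE_mem_wSpace le_rfl) (wSpace_anti (by omega) hv)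
    (form_zero_of_wSpace hv).2 z
  have hh : (t⁻¹ * (y⁻¹ * g) : Sp) ∈ fixK k.val :=
    mul_mem (inv_mem (plane_le_fixK le_rfl ht)) (mul_mem (inv_mem hym) hg)
  have hhe : ((t⁻¹ * (y⁻¹ * g) : Sp) : Mat) *ᵥ stdF k = stdF k := by
    rw [mul_mulVec, mul_mulVec, ← ha]
    have e : ((y⁻¹ : Sp) : Mat) *ᵥ a = c • stdF k := by
      rw [show a = (y : Mat) *ᵥ (c • stdF k) by
        rw [mulVec_smul, hye, smul_smul, mul_inv_cancel₀ hc, one_smul], inv_mulVec_cancel]
    rw [e, ← t2, inv_mulVec_cancel]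
  obtain ⟨v', hv', z', hs⟩ := stab_decomp hh hhe
  refine ⟨_, hv, z, t, ht, t2, t1, v', hv', z', _, hs, ?_⟩
  rw [← hy]; group

/-- A vector of the fixed pairs outside an affine hyperplane. -/
theorem exists_good_one {k : Fin m} {p : Vec} (hp : p ∈ wSpace k.val) (hp0 : p ≠ 0) :
    ∃ v ∈ wSpace (k.val + 1), ∃ z : F, B (stdE k) p + B p v + z * B p (stdF k) ≠ 0 := by
  by_contra hcon
  push Not at hcon
  have h0 : B (stdE k) p = 0 := by simpa [form_zero_right] using hcon 0 (Submodule.zero_mem _) 0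
  have h1 : B p (stdF k) = 0 := by
    simpa [h0, form_zero_right] using hcon 0 (Submodule.zero_mem _) 1
  have hpW : p ∈ wSpace (k.val + 1) := mem_wSpace.2 fun j hj => by
    rcases Nat.lt_or_ge j.val k.val with h | h
    · exact mem_wSpace.1 hp j h
    · obtain rfl : j = k := Fin.ext (by omega)
      exact ⟨form_eq_zero_comm.1 h0, h1⟩
  obtain ⟨v, hv, hne⟩ := nondegOn_stdComplement _ p hpW hp0
  exact hne (by simpa [h0, h1] using hcon v hv 0)

/-- A vector of the fixed pairs outside two affine hyperplanes. -/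
theorem exists_good {k : Fin m} (hF : ∃ a : F, a ≠ 0 ∧ a ≠ 1) {p q : Vec} (hp : p ∈ wSpace k.val)
    (hq : q ∈ wSpace k.val) (hp0 : p ≠ 0) (hq0 : q ≠ 0) :
    ∃ v ∈ wSpace (k.val + 1), ∃ z : F, B (stdE k) p + B p v + z * B p (stdF k) ≠ 0 ∧
      B (stdE k) q + B q v + z * B q (stdF k) ≠ 0 := by
  obtain ⟨v1, hv1, z1, h1⟩ := exists_good_one hp hp0
  obtain ⟨v2, hv2, z2, h2⟩ := exists_good_one hq hq0
  by_cases h1q : B (stdE k) q + B q v1 + z1 * B q (stdF k) = 0
  · by_cases h2p : B (stdE k) p + B p v2 + z2 * B p (stdF k) = 0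
    · obtain ⟨a, ha0, ha1⟩ := hF
      refine ⟨a • v1 + (1 - a) • v2, Submodule.add_mem _ (Submodule.smul_mem _ _ hv1)
        (Submodule.smul_mem _ _ hv2), a * z1 + (1 - a) * z2, ?_, ?_⟩
      · rw [form_add_right, form_smul_right, form_smul_right]
        intro e
        refine h1 ((mul_eq_zero.1 ?_).resolve_left ha0)
        linear_combination e - (1 - a) * h2p
      · rw [form_add_right, form_smul_right, form_smul_right]
        intro e
        refine h2 ((mul_eq_zero.1 ?_).resolve_left (sub_ne_zero.2 (Ne.symm ha1)))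
        linear_combination e - a * h1q
    · exact ⟨v2, hv2, z2, h2p, h2⟩
  · exact ⟨v1, hv1, z1, h1, h1q⟩

/-- Two affine hyperplanes without a good vector, over the field of two elements. -/
theorem sum_eq_of_not_good {k : Fin m} (hF : ∀ a : F, a = 0 ∨ a = 1) {p q : Vec}
    (hp : p ∈ wSpace k.val) (hp0 : p ≠ 0) (hq1 : B (stdE k) q = 1)
    (hbad : ∀ v ∈ wSpace (F := F) (k.val + 1), ∀ z : F,
      B (stdE k) p + B p v + z * B p (stdF k) ≠ 0 → B (stdE k) q + B q v + z * B q (stdF k) = 0) :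
    B (stdE k) p = 0 ∧ ∀ v ∈ wSpace (F := F) (k.val + 1), ∀ z : F,
      B p v + z * B p (stdF k) + (B q v + z * B q (stdF k)) = 0 := by
  have h0 : B (stdE k) p = 0 := by
    by_contra h
    simpa [form_zero_right, hq1] using
      hbad 0 (Submodule.zero_mem _) 0 (by simpa [form_zero_right] using h)
  refine ⟨h0, fun v hv z => ?_⟩
  obtain ⟨v1, hv1, z1, h1⟩ := exists_good_one hp hp0
  have e1 := hbad v1 hv1 z1 h1
  rw [h0, zero_add] at h1
  rw [hq1] at e1
  have two : (1 : F) + 1 = 0 := by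
    rcases hF (1 + 1) with h | h
    · exact h
    · exact absurd (add_eq_right.1 h) one_ne_zero
  have p1 : B p v1 + z1 * B p (stdF k) = 1 := (hF _).resolve_left h1
  rcases hF (B p v + z * B p (stdF k)) with hv0 | hv0
  · have e2 := hbad _ (Submodule.add_mem _ hv hv1) (z + z1) (by
      rw [h0, form_add_right]
      intro e; exact h1 (by linear_combination e - hv0))
    rw [hq1, form_add_right] at e2
    linear_combination hv0 + e2 - e1
  · have e2 := hbad v hv z (by rw [h0, zero_add, hv0]; exact one_ne_zero)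
    rw [hq1] at e2
    linear_combination hv0 + e2

theorem corner_eT {k : Fin m} {v : Vec} (hv : v ∈ wSpace (k.val + 1)) (z : F) (p : Vec) :
    B (stdE k) ((eT (stdF k) v z : Mat) *ᵥ p) = B (stdE k) p + B p v + z * B p (stdF k) := by
  rw [eT_mulVec (form_zero_of_wSpace hv).1]
  simp only [form_add_right, form_smul_right, form_stdE_stdF, if_true, (form_zero_of_wSpace hv).2]
  ring

theorem fixK_le {k : Fin m} (A : Subgroup Sp) (hP : plane k ≤ A)
    (hS : fixK (k.val + 1) ≤ A)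
    (hE : ∀ hk : k.val + 1 < m, eT (stdF k) (stdF ⟨k.val + 1, hk⟩) 0 ∈ A) : fixK k.val ≤ A := by
  have hE0 : ∀ v ∈ wSpace (F := F) (k.val + 1), ∀ z : F, eT (stdF k) v z ∈ A := by
    intro v hv z
    have hZ : spT (stdF k) z ∈ A :=
      hP (transvectionGroup_le_plane k (spT_mem_transvectionGroup (stdF_mem_planeSpace k) z))
    rcases eq_or_ne v 0 with rfl | hv0
    · rwa [eT_zero]
    · have hk : k.val + 1 < m := by
        by_contra hk
        exact hv0 (eq_zero_of_form_eq_zero fun x => by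
          rw [vec_sum x, form_sum_right, Finset.sum_eq_zero]
          intro j _
          obtain ⟨a, b⟩ := mem_wSpace.1 hv j (by omega)
          rw [form_add_right, form_smul_right, form_smul_right, a, b, mul_zero, mul_zero, add_zero])
      obtain ⟨l, hl, e⟩ := exists_fixK_mulVec (stdF_mem_wSpace (j := ⟨k.val + 1, hk⟩) le_rfl) hv
        (stdF_ne_zero _) hv0
      have h1 := mul_mem (mul_mem (hS hl) (hE hk)) (inv_mem (hS hl))
      rw [conj_eT, e, (fixK_succ.1 hl).2.1] at h1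
      have := mul_mem h1 hZ
      rwa [eT_mul_spT (form_zero_of_wSpace hv).1, zero_add] at this
  obtain ⟨w, hw, hwe⟩ := exists_plane_mulVec (stdF_mem_planeSpace (F := F) k) (stdE_mem_planeSpace k)
    (stdF_ne_zero k) (stdE_ne_zero k)
  intro g hg
  obtain ⟨v, hv, z, h1⟩ := exists_good_one (mulVec_mem_wSpace hg (stdF_mem_wSpace le_rfl))
    (mulVec_ne_zero g (stdF_ne_zero k))
  set u := eT (stdF k) v z with hu
  have hug : B (stdE k) (((u * g : Sp) : Mat) *ᵥ stdF k) ≠ 0 := by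
    rw [mul_mulVec, hu, corner_eT hv]; exact h1
  obtain ⟨v₁, hv₁, z₁, t, ht, -, -, v₂, hv₂, z₂, s, hs, e⟩ := cell_decomp
    (mul_mem (eT_mem_fixK (stdF_mem_wSpace le_rfl) (wSpace_anti (by omega) hv)
      (form_zero_of_wSpace hv).1 z) hg) hug
  have hy : eT (stdE k) v₁ z₁ ∈ A := by
    have h2 := mul_mem (mul_mem (hP hw) (hE0 v₁ hv₁ z₁)) (inv_mem (hP hw))
    rwa [conj_eT, hwe, plane_fix_wSpace hw hv₁] at h2
  have : g = u⁻¹ * (eT (stdE k) v₁ z₁ * t * (eT (stdF k) v₂ z₂ * s)) := by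
    rw [← e, ← mul_assoc, inv_mul_cancel, one_mul]
  rw [this]
  exact mul_mem (inv_mem (hE0 v hv z)) (mul_mem (mul_mem hy (hP ht)) (mul_mem (hE0 _ hv₂ _) (hS hs)))

theorem mulVec_mem_planeSpace {k : Fin m} {g : Sp} (hg : g ∈ plane k) {x : Vec}
    (hx : x ∈ planeSpace k) : (g : Mat) *ᵥ x ∈ planeSpace k :=
  mem_planeSpace.2 fun j hj => by
    obtain ⟨a, b⟩ := mem_plane.1 hg j hj
    exact ⟨by rw [← b, form_mulVec]; exact (mem_planeSpace.1 hx j hj).1,
      by rw [← a, form_mulVec]; exact (mem_planeSpace.1 hx j hj).2⟩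

theorem planeSpace_eq {k : Fin m} {x : Vec} (hx : x ∈ planeSpace k) :
    x = B (stdE k) x • stdF k + B x (stdF k) • stdE k := by
  rw [form_swap (stdE k) x, form_stdE_right, neg_neg, form_stdF_right]
  conv_lhs => rw [vec_sum x]
  refine Finset.sum_eq_single k (fun j _ hj => ?_) (fun h => absurd (Finset.mem_univ k) h)
  obtain ⟨a, b⟩ := mem_planeSpace.1 hx j hj
  rw [form_stdE_right, neg_eq_zero] at a
  rw [form_stdF_right] at b
  rw [a, b]; simp

theorem plane_eq_one {k : Fin m} {g : Sp} (hg : g ∈ plane k) (h : g ∈ fixK (k.val + 1)) : g = 1 := by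
  refine symp_ext_std (fun i => ?_) (fun i => ?_) <;> rw [Submonoid.coe_one, one_mulVec] <;>
    by_cases hi : i = k
  · subst hi; exact (fixK_succ.1 h).2.2
  · exact (mem_plane.1 hg i hi).2
  · subst hi; exact (fixK_succ.1 h).2.1
  · exact (mem_plane.1 hg i hi).1

theorem plane_spT {k : Fin m} {v : Vec} (hv : v ∈ planeSpace k) (c : F) : spT v c ∈ plane k :=
  transvectionGroup_le_plane k (spT_mem_transvectionGroup hv c)

/-- Lower, diagonal, upper. -/
theorem plane_decomp {k : Fin m} {g : Sp} (hg : g ∈ plane k)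
    (hc : B (stdE k) ((g : Mat) *ᵥ stdF k) ≠ 0) :
    ∃ (a : F) (t : Sp) (b : F), t ∈ plane k ∧
      (t : Mat) *ᵥ stdF k = B (stdE k) ((g : Mat) *ᵥ stdF k) • stdF k ∧
      (t : Mat) *ᵥ stdE k = (B (stdE k) ((g : Mat) *ᵥ stdF k))⁻¹ • stdE k ∧
      g = spT (stdE k) a * t * spT (stdF k) b := by
  set p := (g : Mat) *ᵥ stdF k with hp
  set c := B (stdE k) p with hcdef
  obtain ⟨t, ht, t1, t2⟩ := exists_plane_pair (k := k) hc
  set a := -(c⁻¹ * B p (stdF k))
  have hy : (spT (stdE k) a : Mat) *ᵥ stdF k = c⁻¹ • p := by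
    have := planeSpace_eq (mulVec_mem_planeSpace hg (stdF_mem_planeSpace (F := F) k))
    rw [← hp, ← hcdef] at this
    rw [spT_mulVec, form_stdF_stdE, if_pos rfl]
    conv_rhs => rw [this, smul_add, smul_smul, smul_smul, inv_mul_cancel₀ hc, one_smul]
    simp only [a]; module
  set h := t⁻¹ * ((spT (stdE k) a)⁻¹ * g) with hh
  have hhp : h ∈ plane k :=
    mul_mem (inv_mem ht) (mul_mem (inv_mem (plane_spT (stdE_mem_planeSpace k) a)) hg)
  have hhe : (h : Mat) *ᵥ stdF k = stdF k := by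
    rw [hh, mul_mulVec, mul_mulVec, ← hp]
    have e : (((spT (stdE k) a)⁻¹ : Sp) : Mat) *ᵥ p = c • stdF k := by
      refine inv_mulVec_eq ?_
      rw [mulVec_smul, hy, smul_smul, mul_inv_cancel₀ hc, one_smul]
    rw [e]
    exact inv_mulVec_eq t2
  set b := B (stdE k) ((h : Mat) *ᵥ stdE k) with hb
  have hhf : (h : Mat) *ᵥ stdE k = b • stdF k + stdE k := by
    have := planeSpace_eq (mulVec_mem_planeSpace hhp (stdE_mem_planeSpace (F := F) k))
    rw [← hb] at this
    have e1 : B ((h : Mat) *ᵥ stdE k) (stdF k) = 1 := by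
      conv_lhs => rw [← hhe]
      rw [form_mulVec, form_stdE_stdF, if_pos rfl]
    rw [e1, one_smul] at this
    exact this
  refine ⟨a, t, b, ht, t2, t1, ?_⟩
  have : h = spT (stdF k) b := by
    refine symp_ext_std (fun i => ?_) (fun i => ?_) <;> rw [spT_mulVec] <;> by_cases hi : i = k
    · subst hi; rw [hhf, form_stdE_stdF, if_pos rfl, mul_one, add_comm]
    · rw [form_stdE_stdF, if_neg hi, (mem_plane.1 hhp i hi).2]; simp
    · subst hi; rw [hhe, form_self]; simp
    · rw [form_stdF_stdF, (mem_plane.1 hhp i hi).1]; simp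
  rw [← this, hh]; group

end CfsgLib.SympAmalgam
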