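import Cfsg.Agent.SympAmalgam.Lifts

/-!
Lifts of the root elements attached to the first free pair.
-/

set_option autoImplicit false

namespace CfsgLib.SympAmalgam

open Matrix CfsgLib.Classical.Symp

variable {m : ℕ} {F : Type*} [Field F] {Γ : Type*} [Group Γ]

local notation "B" => Cfsg.sympForm m F
local notation "Mat" => Matrix (Fin m ⊕ Fin m) (Fin m ⊕ Fin m) F
local notation "Sp" => Matrix.symplecticGroup (Fin m) F
local notation "Vec" => Fin m ⊕ Fin m → F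

namespace Lifts

variable (D : Lifts m F Γ) (k : Fin m)

/-- Preimage inside a subgroup (junk `1`). -/
noncomputable def liftIn (A : Subgroup Γ) (g : Sp) : Γ :=
  @dite _ (∃ x ∈ A, D.π x = g) (Classical.propDecidable _) (fun h => h.choose) (fun _ => 1)

theorem liftIn_spec {A : Subgroup Γ} {g : Sp} (h : ∃ x ∈ A, D.π x = g) :
    D.liftIn A g ∈ A ∧ D.π (D.liftIn A g) = g := by
  rw [liftIn, dif_pos h]; exact h.choose_spec

/-- The long root elements at `k`. -/
noncomputable def zEl (z : F) : Γ := D.liftIn (D.GS k) (spT (stdF k) z)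

theorem zEl_spec (z : F) : D.zEl k z ∈ D.GS k ∧ D.π (D.zEl k z) = spT (stdF k) z :=
  D.liftIn_spec (D.exists_GS (plane_spT (stdF_mem_planeSpace k) z))

theorem injGS : Inj D.π (D.GS k) := (D.inj_SS k k).mono le_sup_left

theorem zEl_add (a b : F) : D.zEl k (a + b) = D.zEl k a * D.zEl k b :=
  (D.injGS k).eq (D.zEl_spec k _).1 (mul_mem (D.zEl_spec k a).1 (D.zEl_spec k b).1)
    (by rw [map_mul, (D.zEl_spec k _).2, (D.zEl_spec k _).2, (D.zEl_spec k _).2, spT_add])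

theorem zEl_zero : D.zEl k 0 = 1 :=
  (D.injGS k).eq (D.zEl_spec k _).1 (one_mem _) (by rw [(D.zEl_spec k _).2, spT_zero, map_one])

theorem zEl_neg (a : F) : D.zEl k (-a) = (D.zEl k a)⁻¹ :=
  eq_inv_of_mul_eq_one_left (by rw [← D.zEl_add, neg_add_cancel, D.zEl_zero])

theorem zEl_comm_gam (z : F) {s : Γ} (hs : s ∈ D.gam (k.val + 1)) :
    D.zEl k z * s = s * D.zEl k z :=
  D.comm_GS_gam (D.zEl_spec k z).1 (fun _ hh => plane_commute (D.π_GS (D.zEl_spec k z).1) hh) hs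

variable {k}

/-- The index after `k`. -/
abbrev nx (hk : k.val + 1 < m) : Fin m := ⟨k.val + 1, hk⟩

theorem spT_mem_mGrp (hk : k.val + 1 < m) {v : Vec}
    (hv : v = stdF k ∨ v = stdF (nx hk)) (z : F) : spT v z ∈ mGrp k := by
  refine mem_mGrp.2 ⟨fun j => ?_, fun j a b => ?_⟩ <;> rw [spT_mulVec]
  · rcases hv with rfl | rfl <;> rw [form_stdF_stdF] <;> simp
  · have e1 : j ≠ k := fun e => a (by rw [e])
    have e2 : j ≠ nx hk := fun e => b (by rw [e])
    rcases hv with rfl | rfl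
    · rw [form_stdE_stdF, if_neg e1]; simp
    · rw [form_stdE_stdF, if_neg e2]; simp

theorem zEl_mem_GM (hk : k.val + 1 < m) (z : F) : D.zEl k z ∈ D.GM k := by
  obtain ⟨x, hx, e⟩ := D.exists_GM hk (spT_mem_mGrp hk (Or.inl rfl) z)
  have := (D.inj_MS k k hk).eq (Subgroup.mem_sup_right (D.zEl_spec k z).1) (Subgroup.mem_sup_left hx)
    (by rw [(D.zEl_spec k z).2, e])
  rwa [this]

/-- The base short root element. -/
noncomputable def xBase (hk : k.val + 1 < m) : Γ :=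
  D.liftIn (D.GM k) (eT (stdF k) (stdF (nx hk)) 0)

theorem xBase_spec (hk : k.val + 1 < m) : D.xBase hk ∈ D.GM k ∧
    D.π (D.xBase hk) = eT (stdF k) (stdF (nx hk)) 0 :=
  D.liftIn_spec (D.exists_GM hk (eT_mem_mGrp hk (Or.inl rfl) 0))

theorem form_e_nx (hk : k.val + 1 < m) : B (stdF k) (stdF (nx hk)) = 0 := form_stdF_stdF _ _

/-- What is needed for the additivity of the short root elements: a scalar other than `0` and `1`,
or the additivity at the first two free pairs. -/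
def AddBase : Prop :=
  (∃ a : F, a ≠ 0 ∧ a ≠ 1) ∨ ∀ (k : Fin m) (h : k.val + 1 + 1 < m),
    ∃ l ∈ D.gam (k.val + 1), ∃ l' ∈ D.gam (k.val + 1),
      (D.π l : Mat) *ᵥ stdF (nx (Nat.lt_of_succ_lt h)) = stdF ⟨k.val + 1 + 1, h⟩ ∧
      (D.π l' : Mat) *ᵥ stdF (nx (Nat.lt_of_succ_lt h)) =
        stdF (nx (Nat.lt_of_succ_lt h)) + stdF ⟨k.val + 1 + 1, h⟩ ∧
      D.xBase (Nat.lt_of_succ_lt h) * (l * D.xBase (Nat.lt_of_succ_lt h) * l⁻¹) =
        l' * D.xBase (Nat.lt_of_succ_lt h) * l'⁻¹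

variable (hF : D.AddBase) (ih : Inj D.π (D.gam (k.val + 1)))

include hF ih in
/-- The stabiliser of the next vector centralises the base element. -/
theorem xBase_comm (hk : k.val + 1 < m) {s : Γ} (hs : s ∈ D.gam (k.val + 1))
    (he : (D.π s : Mat) *ᵥ stdF (nx hk) = stdF (nx hk)) : D.xBase hk * s = s * D.xBase hk := by
  set x := D.xBase hk
  obtain ⟨hx, hπx⟩ := D.xBase_spec hk
  let C : Subgroup Γ := D.gam (k.val + 1) ⊓ Subgroup.centralizer {x}
  have hcomm2 : ∀ h ∈ fixK (m := m) (F := F) (k.val + 1 + 1), D.π x * h = h * D.π x := by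
    intro h hh
    have h1 := fixK_succ.1 (fixK_anti (Nat.le_succ _) hh : h ∈ fixK (k.val + 1))
    have h2 := (mem_fixK.1 hh (nx hk) (by simp)).1
    have := conj_eT h (stdF k) (stdF (nx hk)) 0
    rw [h1.2.1, h2, ← hπx] at this
    exact (mul_inv_eq_iff_eq_mul.1 this).symm
  have hC2 : D.gam (k.val + 1 + 1) ≤ C := fun y hy => ⟨D.gam_anti (Nat.le_succ _) hy,
    Subgroup.mem_centralizer_singleton_iff.2 (D.comm_GM_gam hk hx hcomm2 hy).symm⟩
  have hZ : ∀ z, D.zEl (nx hk) z ∈ C := fun z => by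
    refine ⟨D.GS_le_gam (by simp) (D.zEl_spec _ z).1, Subgroup.mem_centralizer_singleton_iff.2 ?_⟩
    refine (D.inj_MS k (nx hk) hk).comm (Subgroup.mem_sup_right (D.zEl_spec _ z).1)
      (Subgroup.mem_sup_left hx) ?_
    rw [(D.zEl_spec _ z).2, hπx, eq_comm, ← mul_inv_eq_iff_eq_mul]
    rw [conj_spT, eT_fix (form_e_nx hk) 0 (form_stdF_stdF _ _) (form_stdF_stdF _ _)]
  have hx1 : ∀ v ∈ wSpace (F := F) (k.val + 1 + 1), ∀ z, ∃ y ∈ C, D.π y = eT (stdF (nx hk)) v z := by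
    intro v hv z
    rcases eq_or_ne v 0 with rfl | hv0
    · exact ⟨_, hZ z, by rw [(D.zEl_spec _ z).2, eT_zero]⟩
    have hk2 : k.val + 1 + 1 < m := by
      by_contra hk2
      exact hv0 (eq_zero_of_form_eq_zero fun w => by
        rw [vec_sum w, form_sum_right, Finset.sum_eq_zero]
        intro j _
        obtain ⟨a, b⟩ := mem_wSpace.1 hv j (by omega)
        rw [form_add_right, form_smul_right, form_smul_right, a, b, mul_zero, mul_zero, add_zero])
    obtain ⟨g, hg, e⟩ := exists_fixK_mulVec (stdF_mem_wSpace (j := ⟨k.val + 1 + 1, hk2⟩) le_rfl) hv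
      (stdF_ne_zero _) hv0
    obtain ⟨l, hl, el⟩ := D.exists_gam hg
    obtain ⟨hy, hπy⟩ := D.xBase_spec (k := nx hk) hk2
    have hyC : D.xBase (k := nx hk) hk2 ∈ C := by
      refine ⟨D.GM_le_gam (by simp) hk2 hy, Subgroup.mem_centralizer_singleton_iff.2 ?_⟩
      refine (D.inj_MM (nx hk) k hk2 hk).comm (Subgroup.mem_sup_left hy) (Subgroup.mem_sup_right hx) ?_
      rw [hπy, hπx, eq_comm, ← mul_inv_eq_iff_eq_mul, conj_eT]
      rw [eT_fix (form_e_nx hk) 0 (form_stdF_stdF _ _) (form_stdF_stdF _ _),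
        eT_fix (form_e_nx hk) 0 (form_stdF_stdF _ _) (form_stdF_stdF _ _)]
    refine ⟨l * D.xBase (k := nx hk) hk2 * l⁻¹ * D.zEl (nx hk) z,
      mul_mem (mul_mem (mul_mem (hC2 hl) hyC) (inv_mem (hC2 hl))) (hZ z), ?_⟩
    have hge := (mem_fixK.1 hg (nx hk) (by simp)).1
    rw [map_mul, map_mul, map_mul, map_inv, el, hπy, conj_eT, hge, (D.zEl_spec _ z).2]
    rw [show (⟨k.val + 1 + 1, hk2⟩ : Fin m) = nx (k := nx hk) hk2 from rfl] at e
    rw [e, eT_mul_spT (form_zero_of_wSpace (k := nx hk) hv).1, zero_add]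
  obtain ⟨v, hv, z, hg⟩ := stab_decomp (k := nx hk) (D.π_gam hs) he
  obtain ⟨y, hy, ey⟩ := hx1 v hv z
  obtain ⟨r, hr, er⟩ := D.exists_gam hg
  have : s = y * r := ih.eq hs (mul_mem hy.1 (D.gam_anti (Nat.le_succ _) hr))
    (by rw [map_mul, ey, er, ← mul_assoc, mul_inv_cancel, one_mul])
  rw [this]
  exact (Subgroup.mem_centralizer_singleton_iff.1 (mul_mem hy (hC2 hr) : y * r ∈ C).2).symm

/-- The short root elements. -/
noncomputable def xi (k : Fin m) (v : Vec) : Γ := by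
  classical
  exact if h : v ≠ 0 ∧ k.val + 1 < m then
    let l := D.liftIn (D.gam (k.val + 1) ⊓ (fixK (k.val + 1)).comap D.π)
      (if hg : ∃ g : Sp, g ∈ fixK (k.val + 1) ∧ (g : Mat) *ᵥ stdF (nx h.2) = v then hg.choose else 1)
    l * D.xBase h.2 * l⁻¹
  else 1

theorem xi_zero : D.xi k 0 = 1 := dif_neg fun h => h.1 rfl

theorem lt_of_wSpace {v : Vec} (hv : v ∈ wSpace (k.val + 1)) (h0 : v ≠ 0) : k.val + 1 < m := by
  by_contra hk
  exact h0 (eq_zero_of_form_eq_zero fun w => by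
    rw [vec_sum w, form_sum_right, Finset.sum_eq_zero]
    intro j _
    obtain ⟨a, b⟩ := mem_wSpace.1 hv j (by omega)
    rw [form_add_right, form_smul_right, form_smul_right, a, b, mul_zero, mul_zero, add_zero])

include hF ih in
theorem xi_eq (hk : k.val + 1 < m) {l : Γ} (hl : l ∈ D.gam (k.val + 1)) {v : Vec}
    (e : (D.π l : Mat) *ᵥ stdF (nx hk) = v) : D.xi k v = l * D.xBase hk * l⁻¹ := by
  have h0 : v ≠ 0 := e ▸ mulVec_ne_zero _ (stdF_ne_zero _)
  have hex : ∃ g : Sp, g ∈ fixK (k.val + 1) ∧ (g : Mat) *ᵥ stdF (nx hk) = v := ⟨_, D.π_gam hl, e⟩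
  rw [xi, dif_pos ⟨h0, hk⟩]
  simp only [dif_pos hex]
  obtain ⟨h1, h2⟩ := D.liftIn_spec (A := D.gam (k.val + 1) ⊓ (fixK (k.val + 1)).comap D.π)
    (g := hex.choose) (by
      obtain ⟨y, hy, ey⟩ := D.exists_gam hex.choose_spec.1
      exact ⟨y, ⟨hy, D.π_gam hy⟩, ey⟩)
  set l' := D.liftIn (D.gam (k.val + 1) ⊓ (fixK (k.val + 1)).comap D.π) hex.choose
  have hs := D.xBase_comm hF ih hk (mul_mem (inv_mem hl) h1.1) (by
    rw [map_mul, mul_mulVec, h2, hex.choose_spec.2, map_inv]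
    exact inv_mulVec_eq e)
  calc l' * D.xBase hk * l'⁻¹ = l * ((l⁻¹ * l') * D.xBase hk) * l'⁻¹ := by group
    _ = l * (D.xBase hk * (l⁻¹ * l')) * l'⁻¹ := by rw [hs]
    _ = l * D.xBase hk * l⁻¹ := by group

include hF ih in
theorem exists_to (hk : k.val + 1 < m) {v : Vec} (hv : v ∈ wSpace (k.val + 1)) (h0 : v ≠ 0) :
    ∃ l ∈ D.gam (k.val + 1), (D.π l : Mat) *ᵥ stdF (nx hk) = v := by
  obtain ⟨g, hg, e⟩ := exists_fixK_mulVec (stdF_mem_wSpace (j := nx hk) le_rfl) hv (stdF_ne_zero _) h0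
  obtain ⟨l, hl, el⟩ := D.exists_gam hg
  exact ⟨l, hl, by rw [el]; exact e⟩

include hF ih in
theorem π_xi {v : Vec} (hv : v ∈ wSpace (k.val + 1)) : D.π (D.xi k v) = eT (stdF k) v 0 := by
  rcases eq_or_ne v 0 with rfl | h0
  · rw [xi_zero, map_one, eT_zero_zero]
  have hk := lt_of_wSpace hv h0
  obtain ⟨l, hl, e⟩ := D.exists_to hF ih hk hv h0
  rw [D.xi_eq hF ih hk hl e, map_mul, map_mul, map_inv, (D.xBase_spec hk).2, conj_eT, e,
    (fixK_succ.1 (D.π_gam hl)).2.1]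

include hF ih in
theorem conj_xi {l : Γ} (hl : l ∈ D.gam (k.val + 1)) {v : Vec} (hv : v ∈ wSpace (k.val + 1)) :
    l * D.xi k v * l⁻¹ = D.xi k ((D.π l : Mat) *ᵥ v) := by
  rcases eq_or_ne v 0 with rfl | h0
  · rw [mulVec_zero, xi_zero, mul_one, mul_inv_cancel]
  have hk := lt_of_wSpace hv h0
  obtain ⟨l', hl', e⟩ := D.exists_to hF ih hk hv h0
  rw [D.xi_eq hF ih hk hl' e, D.xi_eq hF ih hk (mul_mem hl hl') (v := (D.π l : Mat) *ᵥ v)
    (by rw [map_mul, mul_mulVec, e])]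
  group

include hF ih in
theorem zEl_comm_xi (z : F) {v : Vec} (hv : v ∈ wSpace (k.val + 1)) :
    D.zEl k z * D.xi k v = D.xi k v * D.zEl k z := by
  rcases eq_or_ne v 0 with rfl | h0
  · rw [xi_zero, mul_one, one_mul]
  have hk := lt_of_wSpace hv h0
  obtain ⟨l, hl, e⟩ := D.exists_to hF ih hk hv h0
  have hb : D.zEl k z * D.xBase hk = D.xBase hk * D.zEl k z := by
    refine (D.inj_MS k k hk).comm (Subgroup.mem_sup_right (D.zEl_spec k z).1)
      (Subgroup.mem_sup_left (D.xBase_spec hk).1) ?_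
    rw [(D.zEl_spec k z).2, (D.xBase_spec hk).2, eq_comm, ← mul_inv_eq_iff_eq_mul, conj_spT,
      eT_fix (form_e_nx hk) 0 (form_self _) (form_e_nx hk)]
  have hc := D.zEl_comm_gam k z hl
  rw [D.xi_eq hF ih hk hl e]
  calc D.zEl k z * (l * D.xBase hk * l⁻¹)
      = (D.zEl k z * l) * D.xBase hk * l⁻¹ := by group
    _ = l * (D.zEl k z * D.xBase hk) * l⁻¹ := by rw [hc]; group
    _ = l * D.xBase hk * (D.zEl k z * l⁻¹) := by rw [hb]; group
    _ = (l * D.xBase hk * l⁻¹) * D.zEl k z := by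
      rw [D.zEl_comm_gam k z (inv_mem hl)]; group

include hF ih in
/-- On the next plane the short root elements lie in a two-generator subgroup. -/
theorem xi_mem_plane (hk : k.val + 1 < m) {v : Vec} (hv : v ∈ planeSpace (nx hk)) :
    D.xi k v ∈ D.GM k ⊔ D.GS (nx hk) := by
  rcases eq_or_ne v 0 with rfl | h0
  · rw [xi_zero]; exact one_mem _
  obtain ⟨g, hg, e⟩ := exists_plane_mulVec (stdF_mem_planeSpace (nx hk)) hv (stdF_ne_zero _) h0
  obtain ⟨l, hl, el⟩ := D.exists_GS hg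
  rw [D.xi_eq hF ih hk (D.GS_le_gam (j := nx hk) le_rfl hl) (by rw [el]; exact e)]
  exact mul_mem (mul_mem (Subgroup.mem_sup_right hl) (Subgroup.mem_sup_left (D.xBase_spec hk).1))
    (inv_mem (Subgroup.mem_sup_right hl))

theorem planeSpace_le_wSpace (hk : k.val + 1 < m) :
    planeSpace (F := F) (nx hk) ≤ wSpace (k.val + 1) :=
  fun _ hv => mem_wSpace.2 fun j hj => mem_planeSpace.1 hv j fun e => by
    rw [e] at hj; simp at hj

include hF ih in
theorem xi_mem_GM (hk : k.val + 1 < m) (t : F) : D.xi k (t • stdF (nx hk)) ∈ D.GM k := by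
  obtain ⟨x, hx, e⟩ := D.exists_GM hk (eT_mem_mGrp hk (Or.inr ⟨t, rfl⟩) 0)
  have hp := (planeSpace (nx hk)).smul_mem t (stdF_mem_planeSpace (F := F) (nx hk))
  have := (D.inj_MS k (nx hk) hk).eq (D.xi_mem_plane hF ih hk hp) (Subgroup.mem_sup_left hx)
    (by rw [D.π_xi hF ih (planeSpace_le_wSpace hk hp), e])
  rwa [this]

include hF ih in
theorem xi_add_plane (hk : k.val + 1 < m) {v w : Vec} (hv : v ∈ planeSpace (nx hk))
    (hw : w ∈ planeSpace (nx hk)) :
    D.xi k v * D.xi k w = D.xi k (v + w) * D.zEl k (B w v) := by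
  have hW := planeSpace_le_wSpace (F := F) hk
  refine (D.inj_MS k (nx hk) hk).eq (mul_mem (D.xi_mem_plane hF ih hk hv) (D.xi_mem_plane hF ih hk hw))
    (mul_mem (D.xi_mem_plane hF ih hk (Submodule.add_mem _ hv hw))
      (Subgroup.mem_sup_left (D.zEl_mem_GM hk _))) ?_
  rw [map_mul, map_mul, D.π_xi hF ih (hW hv), D.π_xi hF ih (hW hw),
    D.π_xi hF ih (hW (Submodule.add_mem _ hv hw)), (D.zEl_spec k _).2,
    eT_mul (form_zero_of_wSpace (hW hv)).1 (form_zero_of_wSpace (hW hw)).1,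
    eT_mul_spT (form_zero_of_wSpace (hW (Submodule.add_mem _ hv hw))).1]
  simp

include hF ih in
theorem xi_add_conj {l : Γ} (hl : l ∈ D.gam (k.val + 1)) {v w : Vec}
    (hv : v ∈ wSpace (k.val + 1)) (hw : w ∈ wSpace (k.val + 1))
    (h : D.xi k v * D.xi k w = D.xi k (v + w) * D.zEl k (B w v)) :
    D.xi k ((D.π l : Mat) *ᵥ v) * D.xi k ((D.π l : Mat) *ᵥ w) =
      D.xi k ((D.π l : Mat) *ᵥ v + (D.π l : Mat) *ᵥ w) *
        D.zEl k (B ((D.π l : Mat) *ᵥ w) ((D.π l : Mat) *ᵥ v)) := by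
  rw [← mulVec_add, form_mulVec, ← D.conj_xi hF ih hl hv, ← D.conj_xi hF ih hl hw,
    ← D.conj_xi hF ih hl (Submodule.add_mem _ hv hw)]
  calc l * D.xi k v * l⁻¹ * (l * D.xi k w * l⁻¹) = l * (D.xi k v * D.xi k w) * l⁻¹ := by group
    _ = l * D.xi k (v + w) * (D.zEl k (B w v) * l⁻¹) := by rw [h]; group
    _ = _ := by rw [D.zEl_comm_gam k _ (inv_mem hl)]; group

include hF ih in
theorem xi_add_of_ne {v w : Vec} (hv : v ∈ wSpace (k.val + 1)) (hw : w ∈ wSpace (k.val + 1))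
    (hc : B w v ≠ 0) : D.xi k v * D.xi k w = D.xi k (v + w) * D.zEl k (B w v) := by
  set c := B w v with hcdef
  have hk : k.val + 1 < m := lt_of_wSpace hv fun e => hc (by rw [hcdef, e, form_zero_right])
  obtain ⟨g, hg, e1, e2⟩ := exists_fixK_pair (stdE_mem_wSpace (j := nx hk) le_rfl)
    (stdF_mem_wSpace (j := nx hk) le_rfl) (Submodule.smul_mem _ c⁻¹ hw) hv
    (by rw [form_stdE_stdF, if_pos rfl])
    (by rw [form_smul_left, ← hcdef, inv_mul_cancel₀ hc])
  obtain ⟨l, hl, el⟩ := D.exists_gam hg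
  have h := D.xi_add_conj hF ih hl (stdF_mem_wSpace (j := nx hk) le_rfl)
    (Submodule.smul_mem _ c (stdE_mem_wSpace (j := nx hk) le_rfl))
    (D.xi_add_plane hF ih hk (stdF_mem_planeSpace _)
      (Submodule.smul_mem _ c (stdE_mem_planeSpace _)))
  rw [mulVec_smul, el, e1, e2, smul_smul, mul_inv_cancel₀ hc, one_smul] at h
  exact h

include hF ih in
/-- Independent orthogonal pairs, from the first two free pairs. -/
theorem xi_add_orth (h2 : ∀ (k : Fin m) (h : k.val + 1 + 1 < m),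
    ∃ l ∈ D.gam (k.val + 1), ∃ l' ∈ D.gam (k.val + 1),
      (D.π l : Mat) *ᵥ stdF (nx (Nat.lt_of_succ_lt h)) = stdF ⟨k.val + 1 + 1, h⟩ ∧
      (D.π l' : Mat) *ᵥ stdF (nx (Nat.lt_of_succ_lt h)) =
        stdF (nx (Nat.lt_of_succ_lt h)) + stdF ⟨k.val + 1 + 1, h⟩ ∧
      D.xBase (Nat.lt_of_succ_lt h) * (l * D.xBase (Nat.lt_of_succ_lt h) * l⁻¹) =
        l' * D.xBase (Nat.lt_of_succ_lt h) * l'⁻¹)
    {v w : Vec} (hv : v ∈ wSpace (k.val + 1)) (hw : w ∈ wSpace (k.val + 1)) (hv0 : v ≠ 0)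
    (hc : B w v = 0) (hsp : w ∉ Submodule.span F {v}) :
    D.xi k v * D.xi k w = D.xi k (v + w) * D.zEl k (B w v) := by
  have hk : k.val + 1 < m := lt_of_wSpace hv hv0
  have hf1 := stdF_mem_wSpace (F := F) (j := nx hk) (k := k.val + 1) le_rfl
  obtain ⟨g1, hg1, e1⟩ := exists_fixK_mulVec hf1 hv (stdF_ne_zero _) hv0
  set w0 := ((g1⁻¹ : Sp) : Mat) *ᵥ w with hw0
  have hw0m : w0 ∈ wSpace (k.val + 1) := mulVec_mem_wSpace (inv_mem hg1) hw
  have hw0e : (g1 : Mat) *ᵥ w0 = w := by rw [hw0, mulVec_inv_cancel]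
  have hc0 : B w0 (stdF (nx hk)) = 0 := by rw [← form_mulVec g1, hw0e, e1, hc]
  set a := B (stdE (nx hk)) w0
  set w' := w0 - a • stdF (nx hk) with hw'
  have hw'm : w' ∈ wSpace (k.val + 1 + 1) := mem_wSpace.2 fun j hj => by
    rcases Nat.lt_or_ge j.val (k.val + 1) with h | h
    · exact mem_wSpace.1 (Submodule.sub_mem _ hw0m (Submodule.smul_mem _ a hf1)) j h
    · obtain rfl : j = nx hk := Fin.ext (show j.val = k.val + 1 by omega)
      constructor
      · rw [hw', form_sub_left, form_smul_left, form_stdF_stdE, if_pos rfl, form_swap w0]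
        ring
      · rw [hw', form_sub_left, form_smul_left, form_stdF_stdF, hc0, mul_zero, sub_zero]
  have hw'0 : w' ≠ 0 := fun e => hsp (Submodule.mem_span_singleton.2 ⟨a, by
    rw [← hw0e, ← e1, ← mulVec_smul, sub_eq_zero.1 e]⟩)
  have hk2 : k.val + 1 + 1 < m := lt_of_wSpace (k := nx hk) hw'm hw'0
  obtain ⟨h, hh, e2⟩ := exists_fixK_mulVec
    (stdF_mem_wSpace (j := ⟨k.val + 1 + 1, hk2⟩) le_rfl) hw'm (stdF_ne_zero _) hw'0
  obtain ⟨u, hu, hu1⟩ := nondegOn_stdComplement _ w' hw'm hw'0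
  set u' := (a * (B w' u)⁻¹) • u with hu'
  have hu'm : u' ∈ wSpace (k.val + 1 + 1) := Submodule.smul_mem _ _ hu
  have hfu : B (stdF (nx hk)) u' = 0 := (form_zero_of_wSpace (k := nx hk) hu'm).1
  have ht : eT (stdF (nx hk)) u' 0 ∈ fixK (k.val + 1) :=
    eT_mem_fixK (k := nx hk) hf1 (wSpace_anti (Nat.le_succ _) hu'm) hfu 0
  obtain ⟨y, hy, ey⟩ := D.exists_gam
    (mul_mem hg1 (mul_mem ht (fixK_anti (Nat.le_succ _) hh)) :
      g1 * (eT (stdF (nx hk)) u' 0 * h) ∈ fixK (k.val + 1))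
  have y1 : (D.π y : Mat) *ᵥ stdF (nx hk) = v := by
    rw [ey, mul_mulVec, mul_mulVec, (mem_fixK.1 hh (nx hk) (by simp)).1,
      eT_fix hfu 0 (form_self _) hfu, e1]
  have y2 : (D.π y : Mat) *ᵥ stdF ⟨k.val + 1 + 1, hk2⟩ = w := by
    rw [ey, mul_mulVec, mul_mulVec, e2, eT_mulVec hfu,
      form_eq_zero_comm.1 (form_zero_of_wSpace (k := nx hk) hw'm).1, hu', form_smul_right,
      mul_assoc, inv_mul_cancel₀ hu1]
    rw [← hw0e]
    congr 1
    rw [hw']; module
  obtain ⟨l, hl, l', hl', el, el', hbase⟩ := h2 k hk2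
  have hf2 : stdF (F := F) ⟨k.val + 1 + 1, hk2⟩ ∈ wSpace (k.val + 1) :=
    stdF_mem_wSpace (Nat.le_succ _)
  have hb : D.xi k (stdF (nx hk)) * D.xi k (stdF ⟨k.val + 1 + 1, hk2⟩) =
      D.xi k (stdF (nx hk) + stdF ⟨k.val + 1 + 1, hk2⟩) *
        D.zEl k (B (stdF ⟨k.val + 1 + 1, hk2⟩) (stdF (nx hk))) := by
    rw [form_stdF_stdF, zEl_zero, mul_one, D.xi_eq hF ih hk hl el, D.xi_eq hF ih hk hl' el',
      D.xi_eq hF ih hk (one_mem _) (v := stdF (nx hk)) (by simp)]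
    simpa using hbase
  have := D.xi_add_conj hF ih hy hf1 hf2 hb
  rwa [y1, y2] at this

include hF ih in
theorem xi_add {v w : Vec} (hv : v ∈ wSpace (k.val + 1)) (hw : w ∈ wSpace (k.val + 1)) :
    D.xi k v * D.xi k w = D.xi k (v + w) * D.zEl k (B w v) := by
  by_cases hc : B w v = 0
  swap
  · exact D.xi_add_of_ne hF ih hv hw hc
  rcases eq_or_ne v 0 with rfl | hv0
  · rw [xi_zero, form_zero_right, zEl_zero, one_mul, mul_one, zero_add]
  have hk : k.val + 1 < m := lt_of_wSpace hv hv0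
  by_cases hsp : w ∈ Submodule.span F {v}
  · obtain ⟨s, rfl⟩ := Submodule.mem_span_singleton.1 hsp
    obtain ⟨l, hl, el⟩ := D.exists_to hF ih hk hv hv0
    have h := D.xi_add_conj hF ih hl (stdF_mem_wSpace (j := nx hk) le_rfl)
      (Submodule.smul_mem _ s (stdF_mem_wSpace (j := nx hk) le_rfl))
      (D.xi_add_plane hF ih hk (stdF_mem_planeSpace _)
        (Submodule.smul_mem _ s (stdF_mem_planeSpace _)))
    rwa [mulVec_smul, el] at h
  rcases hF.symm with h2 | ⟨a, ha0, ha1⟩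
  · exact D.xi_add_orth hF ih h2 hv hw hv0 hc hsp
  have hw0 : v ∉ Submodule.span F {w} := by
    intro h
    obtain ⟨s, hs⟩ := Submodule.mem_span_singleton.1 h
    refine hsp (Submodule.mem_span_singleton.2 ⟨s⁻¹, ?_⟩)
    have : s ≠ 0 := fun e => hv0 (by rw [← hs, e, zero_smul])
    rw [← hs, smul_smul, inv_mul_cancel₀ this, one_smul]
  have hwne : w ≠ 0 := fun e => hsp (by rw [e]; exact Submodule.zero_mem _)
  obtain ⟨z, hzw, hzv⟩ := exists_form_eq_eq hwne hw0 a (-1)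
  -- project to the free pairs
  let z1 : Vec := fun i => match i with
    | Sum.inl j => if j.val < k.val + 1 then 0 else z (Sum.inl j)
    | Sum.inr j => if j.val < k.val + 1 then 0 else z (Sum.inr j)
  have hz1 : z1 ∈ wSpace (k.val + 1) := mem_wSpace.2 fun j hj => by
    constructor
    · rw [form_stdE_right]; simp only [z1]; rw [if_pos hj, neg_zero]
    · rw [form_stdF_right]; simp only [z1]; rw [if_pos hj]
  have hzeq : ∀ u ∈ wSpace (F := F) (k.val + 1), B u z1 = B u z := by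
    intro u hu
    rw [vec_sum z1, vec_sum z, form_sum_right, form_sum_right]
    refine Finset.sum_congr rfl fun j _ => ?_
    by_cases hj : j.val < k.val + 1
    · obtain ⟨p, q⟩ := mem_wSpace.1 hu j hj
      simp only [form_add_right, form_smul_right, p, q, mul_zero]
    · simp only [z1, if_neg hj]
  have h1 : B z1 v = 1 := by rw [form_swap, hzeq v hv, hzv, neg_neg]
  have h2 : B w z1 = a := by rw [hzeq w hw, hzw]
  have hne1 : B (w - z1) z1 ≠ 0 := by rwa [form_sub_left, form_self, sub_zero, h2]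
  have hne2 : B (w - z1) (v + z1) ≠ 0 := by
    rw [form_sub_left, form_add_right, form_add_right, hc, form_self, h1, h2]
    intro e; exact ha1 (by linear_combination e)
  have hw1 := Submodule.sub_mem _ hw hz1
  have hFF : D.AddBase := hF
  have e1 := D.xi_add_of_ne hFF ih hz1 hw1 hne1
  rw [add_sub_cancel] at e1
  have e2 := D.xi_add_of_ne hFF ih hv hz1 (by rw [h1]; exact one_ne_zero)
  have e3 := D.xi_add_of_ne hFF ih (Submodule.add_mem _ hv hz1) hw1 hne2
  rw [show v + z1 + (w - z1) = v + w by abel] at e3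
  have e4 : D.xi k w = D.xi k z1 * D.xi k (w - z1) * D.zEl k (-(B (w - z1) z1)) := by
    rw [e1, mul_assoc, ← D.zEl_add, add_neg_cancel, D.zEl_zero, mul_one]
  calc D.xi k v * D.xi k w
      = (D.xi k v * D.xi k z1) * D.xi k (w - z1) * D.zEl k (-(B (w - z1) z1)) := by
        rw [e4]; group
    _ = D.xi k (v + z1) * (D.zEl k (B z1 v) * D.xi k (w - z1)) * D.zEl k (-(B (w - z1) z1)) := by
        rw [e2]; group
    _ = (D.xi k (v + z1) * D.xi k (w - z1)) * D.zEl k (B z1 v) * D.zEl k (-(B (w - z1) z1)) := by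
        rw [D.zEl_comm_xi hFF ih _ hw1]; group
    _ = D.xi k (v + w) * (D.zEl k (B (w - z1) (v + z1)) * D.zEl k (B z1 v) *
          D.zEl k (-(B (w - z1) z1))) := by rw [e3]; group
    _ = _ := by
        rw [← D.zEl_add, ← D.zEl_add]
        congr 2
        simp only [form_sub_left, form_add_right]
        ring

end Lifts

end CfsgLib.SympAmalgam
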